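import Cfsg.Agent.RootWeight.RootRep
import Cfsg.Agent.ChevFieldAut.Basic
import Cfsg.Agent.Chevalley.BNPair
import Cfsg.Agent.Characters.Integrality

/-!
# The operators of a representation of a Chevalley group

A representation of the group gives operators for all the roots; the degree of an irreducible one
divides the group order times its trace defect at a root element.
-/

set_option autoImplicit false
set_option linter.unusedSectionVars false

namespace CfsgLib.RootWeight

open Module Cfsg.Lie CfsgLib.Chevalley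
open scoped MatrixGroups

variable {D : ChevalleyDatum} (hW : GoodWeyl D) (hC : GoodComm D) {F : Type*} [Field F]

/-- A root element in the group, `1` for an index out of range. -/
noncomputable def rootMem (r : ℕ) (t : F) : D.group F :=
  if h : r < D.nroots then ⟨X hW.good ⟨r, h⟩ t, X_mem_group hW.good _ _⟩ else 1

/-- A torus element in the group, `1` for an index out of range. -/
noncomputable def torMem (h : ℕ) (u : Fˣ) : D.group F :=
  if hh : h < D.nroots then ⟨hT F ⟨h, hh⟩ u,
    borel_le_group hW (le_sup_right (a := D.posUnipotent F) (hT_mem_diagonal hW _ _))⟩ else 1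

theorem coe_rootMem {r : ℕ} (h : r < D.nroots) (t : F) :
    (rootMem hW r t : GL D.Idx F) = X hW.good ⟨r, h⟩ t := by rw [rootMem, dif_pos h]

theorem rootMem_add (r : ℕ) (t u : F) : rootMem hW r (t + u) = rootMem hW r t * rootMem hW r u := by
  by_cases h : r < D.nroots
  · exact Subtype.ext (by rw [Subgroup.coe_mul, coe_rootMem hW h, coe_rootMem hW h, coe_rootMem hW h, X_mul])
  · simp [rootMem, dif_neg h]

theorem rootMem_zero (r : ℕ) : rootMem hW r (0 : F) = 1 := by
  by_cases h : r < D.nroots
  · exact Subtype.ext (by rw [coe_rootMem hW h, X_zero, OneMemClass.coe_one])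
  · simp [rootMem, dif_neg h]

variable {W : Type*} [AddCommGroup W] [Module ℂ W] [FiniteDimensional ℂ W]
  (ρ : Representation ℂ ↥(D.group F) W)

include hC in
theorem rootMem_comm0 {r s : ℕ} (hr : r < D.nroots) (hs : s < D.nroots) (h1 : s ≠ r)
    (h2 : s ≠ opp D r) (h3 : D.commTerms r s = []) (t u : F) :
    rootMem hW s u * rootMem hW r t = rootMem hW r t * rootMem hW s u := by
  refine Subtype.ext ?_
  simp only [Subgroup.coe_mul, coe_rootMem hW hr, coe_rootMem hW hs]
  have h := X_comm hC (R := F) ⟨r, hr⟩ ⟨s, hs⟩ (fun e => h1 (Fin.ext_iff.1 e))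
    (fun e => h2 (by have := Fin.ext_iff.1 e; rw [Fin.val_rev] at this; simp only [opp] at *; omega)) t u
  simp only [commRhs, h3, List.map_nil, wordGL, List.prod_nil, mul_one] at h
  exact h

include hC in
theorem rootMem_comm1 {r s k : ℕ} (hr : r < D.nroots) (hs : s < D.nroots) (hk : k < D.nroots) {c : ℤ}
    (h1 : s ≠ r) (h2 : s ≠ opp D r) (h3 : D.commTerms r s = [(k, c, 1, 1)]) (t u : F) :
    rootMem hW s u * rootMem hW r t =
      rootMem hW r t * rootMem hW s u * rootMem hW k ((c : F) * (-t) * u) := by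
  refine Subtype.ext ?_
  simp only [Subgroup.coe_mul, coe_rootMem hW hr, coe_rootMem hW hs, coe_rootMem hW hk]
  have h := X_comm hC (R := F) ⟨r, hr⟩ ⟨s, hs⟩ (fun e => h1 (Fin.ext_iff.1 e))
    (fun e => h2 (by have := Fin.ext_iff.1 e; rw [Fin.val_rev] at this; simp only [opp] at *; omega)) t u
  rw [commRhs, h3] at h
  simp only [List.map_cons, List.map_nil, pow_one] at h
  rw [show ([(k, (c : F) * -t * u)] : List (ℕ × F)) =
    [(((⟨k, hk⟩ : Root D) : ℕ), (c : F) * -t * u)] from rfl, wordGL_cons] at h
  simpa [wordGL] using h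

/-- The operators of a representation. -/
noncomputable def RRep.ofRep : RRep D F W (List.range D.nroots) where
  T r :=
    { toFun := fun t => ρ (rootMem hW r t)
      map_zero_eq_one' := by rw [rootMem_zero, map_one]
      map_add_eq_mul' := fun a b => by rw [rootMem_add, map_mul] }
  H h u := ρ (torMem hW h u)
  comm0 r hr s hs h1 h2 h3 t u := by
    show ρ _ * ρ _ = ρ _ * ρ _
    rw [← map_mul, ← map_mul,
      rootMem_comm0 hW hC (List.mem_range.1 hr) (List.mem_range.1 hs) h1 h2 h3]
  comm1 r hr s hs k hk c h1 h2 h3 t u := by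
    show ρ _ * ρ _ = ρ _ * ρ _ * ρ _
    rw [← map_mul, ← map_mul, ← map_mul,
      rootMem_comm1 hW hC (List.mem_range.1 hr) (List.mem_range.1 hs) (List.mem_range.1 hk) h1 h2 h3]
  scale h hh r hr u t := by
    show ρ _ * ρ _ = ρ _ * ρ _
    rw [← map_mul, ← map_mul]
    congr 1
    refine Subtype.ext ?_
    simp only [Subgroup.coe_mul, torMem, dif_pos hh, coe_rootMem hW (List.mem_range.1 hr)]
    exact ChevFieldAut.hT_mul_X hW.good _ _ u t
  H_inv h hh u := by
    show ρ _ * ρ _ = 1
    rw [← map_mul, ← map_one ρ]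
    congr 1
    refine Subtype.ext ?_
    simp only [Subgroup.coe_mul, torMem, dif_pos hh, hT_mul, mul_inv_cancel, hT_one,
      OneMemClass.coe_one]

theorem RRep.ofRep_T (r : ℕ) (t : F) :
    (RRep.ofRep hW hC ρ).T r t = ρ (rootMem hW r t) := rfl

/-- The degree divides the group order times an integral trace defect. -/
theorem finrank_dvd_mul_defect [Fintype F] [ρ.IsIrreducible] (r : ℕ) (t : F) (N : ℕ)
    (h : (finrank ℂ W : ℂ) - LinearMap.trace ℂ W ((RRep.ofRep hW hC ρ).T r t) = (N : ℂ)) :
    finrank ℂ W ∣ Nat.card ↥(D.group F) * N := by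
  classical
  let _ : Fintype ↥(D.group F) := Fintype.ofFinite _
  set g := rootMem hW r t
  set C := Subgroup.centralizer ({g} : Set ↥(D.group F))
  have hk : finrank ℂ W ≠ 0 := (Characters.finrank_pos_of_isIrreducible ρ).ne'
  have h1 := Characters.isIntegral_index_mul_char_div ρ g
  have h2 : IsIntegral ℤ ((C.index : ℂ) * (N : ℂ) / (finrank ℂ W : ℂ)) := by
    have e : (C.index : ℂ) * (N : ℂ) / (finrank ℂ W : ℂ) =
        (C.index : ℂ) - (C.index : ℂ) * ρ.character g / (finrank ℂ W : ℂ) := by
      rw [← h, RRep.ofRep_T, mul_sub, sub_div, mul_div_cancel_right₀ _ (Nat.cast_ne_zero.2 hk)]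
      rfl
    rw [e]
    exact (isIntegral_algebraMap (R := ℤ) (A := ℂ) (x := (C.index : ℤ))).sub h1
  rw [← Nat.cast_mul] at h2
  exact (Characters.dvd_of_isIntegral_div hk h2).trans
    (mul_dvd_mul_right C.index_dvd_card _)

end CfsgLib.RootWeight
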