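import Cfsg.Agent.RootWeight.Chain

/-!
# Steps of a chain in one statement

A step with a root of the next Levi set that stays non-trivial on the fixed space; the trace defect
of that root when it is known on the whole space; the number of cells.
-/

set_option autoImplicit false
set_option linter.unusedSectionVars false

namespace CfsgLib.RootWeight

open Module Cfsg.Lie CfsgLib.RepBounds CfsgLib.Chevalley

variable {D : ChevalleyDatum} {F : Type*} [Field F] [Fintype F] {W : Type*} [AddCommGroup W]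
  [Module ℂ W] [FiniteDimensional ℂ W] {Φ : List ℕ} {m K d : ℕ} {Y : Fin m → ℕ} {al : Fin K → ℕ}
  {𝕋 : Tab m K} {ψ : AddChar F ℂ} (R : RRep D F W Φ) (L : LinkOk D Φ Y al 𝕋) (hT : 𝕋.Ok d)

/-- The numbers of the moved and of all cells, as sums over lists of exponents. -/
theorem Tab.Ok.card_cells (h : 𝕋.Ok d) [DecidableEq F] (p : Fin m → Prop) [DecidablePred p]
    (l : List ℕ) (hl : (((Finset.univ.filter p).val.map fun μ => (𝕋.Lo μ).card) : Multiset ℕ) = ↑l) :
    ((Finset.univ.filter fun x : 𝕋.Par F => p x.1).card : ℤ) =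
      ((Fintype.card F : ℤ) - 1) * (l.map fun e => (Fintype.card F : ℤ) ^ e).sum := by
  rw [h.card_par, Nat.cast_mul, Nat.cast_sub Fintype.card_pos, Nat.cast_one, Nat.cast_sum]
  congr 1
  rw [← Multiset.sum_coe, ← Multiset.map_coe, ← hl, Multiset.map_map, Finset.sum_eq_multiset_sum]
  exact congrArg Multiset.sum (Multiset.map_congr rfl fun μ _ => by simp)

include hT in
theorem card_par_all [DecidableEq F] (l : List ℕ)
    (hl : (((Finset.univ : Finset (Fin m)).val.map fun μ => (𝕋.Lo μ).card) : Multiset ℕ) = ↑l) :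
    (Fintype.card (𝕋.Par F) : ℤ) =
      ((Fintype.card F : ℤ) - 1) * (l.map fun e => (Fintype.card F : ℤ) ^ e).sum := by
  have h := hT.card_cells (F := F) (fun _ => True) l (by simpa using hl)
  simpa using h

include hT

open Classical in
/-- The trace defect on the fixed space of a root whose trace defect is known. -/
theorem RRep.next_defect (hψ : ψ.IsPrimitive) (hE : Exact ψ 𝕋 (R.P L)) {kM : ℕ} {s : Fin K}
    (hside : SideOk D al 𝕋 kM s) (hph : Phase R L ψ kM s) {t : F} (ht : t ≠ 0) :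
    (finrank ℂ (LinearMap.range (pr ψ (R.P L) 0)) : ℂ) -
        LinearMap.trace ℂ _ ((R.next L hT.1 ψ).T (al s) t) =
      (finrank ℂ W : ℂ) - LinearMap.trace ℂ W (R.T (al s) t) -
        ((Finset.univ.filter fun x : 𝕋.Par F => (x.1 : ℕ) < kM).card : ℂ) := by
  have h := trace_move hψ (R.rel L hT.1) hT hE hside.1 ht
    (fun μ c h1 h2 h3 _ => hph μ c h1 h2 h3 t) (fun μ h1 e he hlt b => by
      obtain ⟨n1, n2, hct⟩ := hside.2 μ h1 e he hlt
      exact (R.comm0 _ (L.2.1 s) _ (L.2.1 e.1) n1 n2 hct t b).symm)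
  rw [show finrank ℂ (LinearMap.range (pr ψ (R.P L) 0)) = mu ψ (R.P L) 0 from rfl, R.trace_next L hT.1]
  rw [show (fun k => R.T (al k)) s t = R.T (al s) t from rfl] at h
  linear_combination -h

open Classical in
/-- One step with the trace defect of the next root. -/
theorem RRep.descend (hψ : ψ.IsPrimitive) (hnt : ∃ i t, R.T (Y i) t ≠ 1) {kM : ℕ} {s : Fin K}
    (hside : SideOk D al 𝕋 kM s) (adj : ℕ × Fin m × ℤ × ℤ) (hadj : AdjOk D Φ Y al s adj)
    (hph : Phase R L ψ kM s) (lm la : List ℕ) (e : ℕ)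
    (hlm : (((Finset.univ.filter fun μ : Fin m => (μ : ℕ) < kM).val.map fun μ => (𝕋.Lo μ).card) :
      Multiset ℕ) = ↑lm)
    (hla : (((Finset.univ : Finset (Fin m)).val.map fun μ => (𝕋.Lo μ).card) : Multiset ℕ) = ↑la)
    (he : (Fintype.card F : ℤ) ^ (d + 1) -
      ((Fintype.card F : ℤ) - 1) * (lm.map fun i => (Fintype.card F : ℤ) ^ i).sum =
        (Fintype.card F : ℤ) ^ e) :
    (Fintype.card F : ℤ) ^ (d + 2) ≤ (finrank ℂ W : ℤ) ∨
      2 * (((Fintype.card F : ℤ) - 1) * (la.map fun i => (Fintype.card F : ℤ) ^ i).sum) ≤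
        (finrank ℂ W : ℤ) ∨
      ((∀ t : F, t ≠ 0 → (finrank ℂ (LinearMap.range (pr ψ (R.P L) 0)) : ℂ) -
          LinearMap.trace ℂ _ ((R.next L hT.1 ψ).T (al s) t) = (Fintype.card F : ℂ) ^ e) ∧
        (∃ t, (R.next L hT.1 ψ).T (al s) t ≠ 1) ∧
        (finrank ℂ W : ℤ) = (finrank ℂ (LinearMap.range (pr ψ (R.P L) 0)) : ℤ) +
          ((Fintype.card F : ℤ) - 1) * (la.map fun i => (Fintype.card F : ℤ) ^ i).sum) := by
  have hc := card_par_all (F := F) hT la hla
  rcases R.step L hT hψ hnt with h | h | ⟨hE, h⟩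
  · exact Or.inl (by exact_mod_cast h)
  · refine Or.inr (Or.inl ?_)
    rw [← hc]; exact_mod_cast h
  · have key : ∀ t : F, t ≠ 0 → (finrank ℂ (LinearMap.range (pr ψ (R.P L) 0)) : ℂ) -
        LinearMap.trace ℂ _ ((R.next L hT.1 ψ).T (al s) t) = (Fintype.card F : ℂ) ^ e := fun t ht => by
      have h1 := R.next_trace L hT hψ hE hside adj hadj hph ht
      have h2 := hT.card_cells (F := F) (fun μ => (μ : ℕ) < kM) lm hlm
      rw [hT.card_par (F := F) (fun μ => (μ : ℕ) < kM)] at h2
      have h3 := congrArg (Int.cast : ℤ → ℂ) he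
      rw [← h2] at h3
      push_cast at h3
      rw [h1]
      push_cast
      linear_combination h3
    refine Or.inr (Or.inr ⟨key, ⟨1, fun h1 => ?_⟩, by rw [← hc]; exact_mod_cast h⟩)
    have h2 := key 1 one_ne_zero
    rw [h1, LinearMap.trace_one, sub_self] at h2
    exact pow_ne_zero _ (Nat.cast_ne_zero.2 Fintype.card_ne_zero) h2.symm

end CfsgLib.RootWeight
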