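import Cfsg.Agent.RootWeight.Chain
import Cfsg.Agent.RepBounds.Restrict
import Cfsg.Agent.ChevSimple.Basic

/-!
# Root operators of a representation of a Chevalley group
-/

set_option autoImplicit false

namespace CfsgLib.RootWeight

open Module Cfsg.Lie CfsgLib.Chevalley

variable {D : ChevalleyDatum} {F : Type*} [Field F] {V : Type*} [AddCommGroup V] [Module ℂ V]

/-- A coroot scales root elements by the pairing. -/
theorem hT_scale (hW : GoodWeyl D) (h r : Root D) (u : Fˣ) (t : F) :
    hT F h u * X hW.good r t = X hW.good r (((u ^ D.pairing h r : Fˣ) : F) * t) * hT F h u := by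
  refine mul_inv_eq_iff_eq_mul.1 ?_
  rw [hT_eq_torC, ChevSimple.torC_conj_X]
  congr 3
  rw [pairing_eq_sum, ChevSimple.chi]
  simp only [← zpow_mul]
  induction (Finset.univ : Finset (Fin D.rank)) using Finset.induction_on with
  | empty => simp
  | insert k S hk ih => rw [Finset.sum_insert hk, Finset.prod_insert hk, zpow_add, ih]

/-- A root element in the group. -/
noncomputable def xG (hW : GoodWeyl D) (r : Root D) (t : F) : D.group F :=
  ⟨X hW.good r t, X_mem_group hW.good r t⟩

theorem xG_mul (hW : GoodWeyl D) (r : Root D) (t u : F) :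
    xG hW r t * xG hW r u = xG hW r (t + u) := Subtype.ext (X_mul hW.good r t u)

theorem xG_zero (hW : GoodWeyl D) (r : Root D) : xG hW r (0 : F) = 1 :=
  Subtype.ext (X_zero hW.good r)

theorem xG_commute (hW : GoodWeyl D) {r s : Root D} (h1 : (s : ℕ) ≠ r) (h3 : (s : ℕ) ≠ opp D r)
    (hc : D.commTerms r s = []) (t u : F) : Commute (xG hW s u) (xG hW r t) := by
  have := X_comm hW.toGoodComm r s (fun e => h1 (by rw [e]))
    (fun e => h3 (by rw [e, opp, Fin.val_rev]; omega)) t u
  rw [commRhs, hc] at this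
  exact Subtype.ext (by simpa [wordGL, xG] using this)

theorem xG_comm (hW : GoodWeyl D) {r s l : Root D} (c : ℤ) (h1 : (s : ℕ) ≠ r)
    (h3 : (s : ℕ) ≠ opp D r) (hc : D.commTerms r s = [((l : ℕ), c, 1, 1)]) (t u : F) :
    xG hW s u * xG hW r t = xG hW r t * xG hW s u * xG hW l ((c : F) * (-t) * u) := by
  have := X_comm hW.toGoodComm r s (fun e => h1 (by rw [e]))
    (fun e => h3 (by rw [e, opp, Fin.val_rev]; omega)) t u
  rw [commRhs, hc] at this
  exact Subtype.ext (by simpa [wordGL, xG] using this)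

/-- A torus element in the group. -/
noncomputable def hG (hW : GoodWeyl D) (r : Root D) (u : Fˣ) : D.group F :=
  ⟨hT F r u, ChevSimple.hT_mem_group hW r u⟩

/-- The operators of a root. -/
noncomputable def rootChar (hW : GoodWeyl D) (ρ : Representation ℂ (D.group F) V) (r : Root D) :
    AddChar F (End ℂ V) where
  toFun t := ρ (xG hW r t)
  map_zero_eq_one' := by rw [xG_zero, map_one]
  map_add_eq_mul' a b := by rw [← map_mul, xG_mul]

/-- All root operators of a representation. -/
noncomputable def ofRep (hW : GoodWeyl D) (ρ : Representation ℂ (D.group F) V) :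
    RRep D F V (List.range D.nroots) where
  T r := if h : r < D.nroots then rootChar hW ρ ⟨r, h⟩ else 1
  H h u := if h' : h < D.nroots then ρ (hG hW ⟨h, h'⟩ u) else 1
  comm0 r hr s hs h1 h3 hc t u := by
    rw [List.mem_range] at hr hs
    rw [dif_pos hr, dif_pos hs]
    exact ((xG_commute hW (r := ⟨r, hr⟩) (s := ⟨s, hs⟩) h1 h3 hc t u).map ρ).eq
  comm1 r hr s hs l hl c h1 h3 hc t u := by
    rw [List.mem_range] at hr hs hl
    rw [dif_pos hr, dif_pos hs, dif_pos hl]
    have := congrArg ρ (xG_comm hW (r := ⟨r, hr⟩) (s := ⟨s, hs⟩) (l := ⟨l, hl⟩) c h1 h3 hc t u)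
    simpa [map_mul, rootChar] using this
  scale h hh r hr u t := by
    rw [List.mem_range] at hr
    rw [dif_pos hr, dif_pos hh]
    have := congrArg ρ (show hG hW ⟨h, hh⟩ u * xG hW ⟨r, hr⟩ t =
      xG hW ⟨r, hr⟩ (((u ^ D.pairing h r : Fˣ) : F) * t) * hG hW ⟨h, hh⟩ u from
      Subtype.ext (hT_scale hW ⟨h, hh⟩ ⟨r, hr⟩ u t))
    simpa [map_mul, rootChar] using this
  H_inv h hh u := by
    rw [dif_pos hh, dif_pos hh, ← map_mul,
      show hG hW ⟨h, hh⟩ u * hG hW ⟨h, hh⟩ u⁻¹ = 1 from
        Subtype.ext (by simp [hG, hT_mul, hT_one]), map_one]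

theorem ofRep_T (hW : GoodWeyl D) (ρ : Representation ℂ (D.group F) V) {r : ℕ} (hr : r < D.nroots)
    (t : F) : (ofRep hW ρ).T r t = ρ (xG hW ⟨r, hr⟩ t) := by
  show (if h : r < D.nroots then rootChar hW ρ ⟨r, h⟩ else 1 : AddChar F _) t = _
  rw [dif_pos hr]
  rfl

theorem ofRep_ne_one [FiniteDimensional ℂ V] (hW : GoodWeyl D) (hS : IsSimpleGroup (D.group F))
    (ρ : Representation ℂ (D.group F) V) (hρ : ρ.IsIrreducible) (hk : 2 ≤ finrank ℂ V) {r : ℕ}
    (hr : r < D.nroots) : (ofRep hW ρ).T r 1 ≠ 1 := by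
  rw [ofRep_T hW ρ hr]
  refine RepBounds.apply_ne_one ρ hρ hk _ fun N hN hx => ?_
  rcases hN.eq_bot_or_eq_top with h | h
  · rw [h, Subgroup.mem_bot] at hx
    refine absurd ?_ (one_ne_zero (α := F))
    exact X_injective hW.good ⟨r, hr⟩
      ((congrArg Subtype.val hx).trans (X_zero hW.good ⟨r, hr⟩).symm)
  · exact h

end CfsgLib.RootWeight
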