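import Cfsg.Agent.RootWeight.Chain

/-!
# Triviality spreads along commutators
-/

set_option autoImplicit false
set_option linter.unusedSectionVars false

namespace CfsgLib.RootWeight

open Module Cfsg.Lie CfsgLib.Chevalley

/-- A commutator `(r, s, l, c)` giving the root `l`. -/
def ComStep (D : ChevalleyDatum) (Φ : List ℕ) (e : ℕ × ℕ × ℕ × ℤ) : Prop :=
  e.1 ∈ Φ ∧ e.2.1 ∈ Φ ∧ e.2.2.1 ∈ Φ ∧ e.2.1 ≠ e.1 ∧ e.2.1 ≠ opp D e.1 ∧
    e.2.2.2 * e.2.2.2 = 1 ∧ D.commTerms e.1 e.2.1 = [(e.2.2.1, e.2.2.2, 1, 1)]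

instance (D : ChevalleyDatum) (Φ : List ℕ) (e : ℕ × ℕ × ℕ × ℤ) : Decidable (ComStep D Φ e) :=
  inferInstanceAs (Decidable (_ ∧ _))

/-- Each step needs one of its roots known. -/
def SpreadOk (D : ChevalleyDatum) (Φ : List ℕ) : List ℕ → List (ℕ × ℕ × ℕ × ℤ) → List ℕ → Prop
  | kn, [], goal => ∀ r ∈ goal, r ∈ kn
  | kn, e :: st, goal =>
    ComStep D Φ e ∧ (e.1 ∈ kn ∨ e.2.1 ∈ kn) ∧ SpreadOk D Φ (e.2.2.1 :: kn) st goal

instance SpreadOk.dec (D : ChevalleyDatum) (Φ : List ℕ) : ∀ (kn : List ℕ)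
    (st : List (ℕ × ℕ × ℕ × ℤ)) (goal : List ℕ), Decidable (SpreadOk D Φ kn st goal)
  | kn, [], goal => inferInstanceAs (Decidable (∀ r ∈ goal, r ∈ kn))
  | kn, e :: st, goal =>
    have := SpreadOk.dec D Φ (e.2.2.1 :: kn) st goal
    inferInstanceAs (Decidable (_ ∧ _ ∧ SpreadOk D Φ (e.2.2.1 :: kn) st goal))

/-- Each step needs both of its roots known. -/
def CloseOk (D : ChevalleyDatum) (Φ : List ℕ) : List ℕ → List (ℕ × ℕ × ℕ × ℤ) → List ℕ → Prop
  | kn, [], goal => ∀ r ∈ goal, r ∈ kn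
  | kn, e :: st, goal =>
    ComStep D Φ e ∧ (e.1 ∈ kn ∧ e.2.1 ∈ kn) ∧ CloseOk D Φ (e.2.2.1 :: kn) st goal

instance CloseOk.dec (D : ChevalleyDatum) (Φ : List ℕ) : ∀ (kn : List ℕ)
    (st : List (ℕ × ℕ × ℕ × ℤ)) (goal : List ℕ), Decidable (CloseOk D Φ kn st goal)
  | kn, [], goal => inferInstanceAs (Decidable (∀ r ∈ goal, r ∈ kn))
  | kn, e :: st, goal =>
    have := CloseOk.dec D Φ (e.2.2.1 :: kn) st goal
    inferInstanceAs (Decidable (_ ∧ _ ∧ CloseOk D Φ (e.2.2.1 :: kn) st goal))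

variable {D : ChevalleyDatum} {F : Type*} [Field F] {W : Type*} [AddCommGroup W] [Module ℂ W]
  {Φ : List ℕ} (R : RRep D F W Φ)

theorem unit_arg {c : ℤ} (hc : c * c = 1) (p : F → Prop)
    (h : ∀ u : F, p ((c : F) * -1 * u)) (x : F) : p x := by
  have := h (-(c : F) * x)
  rwa [show (c : F) * -1 * (-(c : F) * x) = ((c : F) * c) * x by ring,
    show (c : F) * c = 1 by exact_mod_cast congrArg (Int.cast : ℤ → F) hc, one_mul] at this

theorem RRep.mul_left_inj' {r : ℕ} {t : F} {X Y : End ℂ W} (h : R.T r t * X = R.T r t * Y) : X = Y := by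
  have e := congrArg (fun Z => R.T r (-t) * Z) h
  simpa [← mul_assoc, ← AddChar.map_add_eq_mul] using e

/-- A trivial root makes the roots of its commutators trivial. -/
theorem RRep.spread : ∀ {kn : List ℕ} {st : List (ℕ × ℕ × ℕ × ℤ)} {goal : List ℕ},
    SpreadOk D Φ kn st goal → (∀ r ∈ kn, ∀ t, R.T r t = 1) → ∀ r ∈ goal, ∀ t, R.T r t = 1
  | _, [], _, h, hk => fun r hr => hk r (h r hr)
  | kn, (r, s, l, c) :: st, _, h, hk => by
    obtain ⟨⟨hr, hs, hl, h1, h2, hc, hct⟩, hor, hrest⟩ := h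
    refine RRep.spread hrest fun x hx => ?_
    rcases List.mem_cons.1 hx with rfl | hx
    swap
    · exact hk x hx
    intro y
    refine unit_arg hc (fun z => R.T x z = 1) (fun u => ?_) y
    have e := R.comm1 r hr s hs x hl c h1 h2 hct 1 u
    rcases hor with hh | hh
    · rw [hk r hh, mul_one, one_mul] at e
      exact R.mul_left_inj' (by rw [← e, mul_one])
    · rw [hk s hh, mul_one, one_mul] at e
      exact R.mul_left_inj' (by rw [← e, mul_one])

/-- A vector fixed by two roots is fixed by the root of their commutator. -/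
theorem RRep.close {v : W} : ∀ {kn : List ℕ} {st : List (ℕ × ℕ × ℕ × ℤ)} {goal : List ℕ},
    CloseOk D Φ kn st goal → (∀ r ∈ kn, ∀ t, R.T r t v = v) → ∀ r ∈ goal, ∀ t, R.T r t v = v
  | _, [], _, h, hk => fun r hr => hk r (h r hr)
  | kn, (r, s, l, c) :: st, _, h, hk => by
    obtain ⟨⟨hr, hs, hl, h1, h2, hc, hct⟩, ⟨hkr, hks⟩, hrest⟩ := h
    refine RRep.close hrest fun x hx => ?_
    rcases List.mem_cons.1 hx with rfl | hx
    swap
    · exact hk x hx
    intro y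
    refine unit_arg hc (fun z => R.T x z v = v) (fun u => ?_) y
    have e := LinearMap.congr_fun (R.comm1 r hr s hs x hl c h1 h2 hct 1 u) v
    simp only [Module.End.mul_apply, hk r hkr, hk s hks] at e
    have e' := congrArg (fun w => R.T s (-u) (R.T r (-1) w)) e
    simp only [hk r hkr, hk s hks] at e'
    simp only [← Module.End.mul_apply, mul_assoc] at e'
    rw [← mul_assoc (R.T r (-1)), ← AddChar.map_add_eq_mul, neg_add_cancel,
      AddChar.map_zero_eq_one, one_mul, ← mul_assoc (R.T s (-u)), ← AddChar.map_add_eq_mul,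
      neg_add_cancel, AddChar.map_zero_eq_one, one_mul] at e'
    simpa only [mul_assoc] using e'.symm

end CfsgLib.RootWeight
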