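import Cfsg.Agent.RootWeight.Chain

/-!
# Vectors fixed by an abelian set
-/

set_option autoImplicit false
set_option linter.unusedSectionVars false

namespace CfsgLib.RootWeight

open Module Cfsg.Lie CfsgLib.RepBounds

variable {D : ChevalleyDatum} {F : Type*} [Field F] [Fintype F] {W : Type*} [AddCommGroup W]
  [Module ℂ W] [FiniteDimensional ℂ W] {Φ : List ℕ} {m K : ℕ} {Y : Fin m → ℕ} {al : Fin K → ℕ}
  {𝕋 : Tab m K} {ψ : AddChar F ℂ} (R : RRep D F W Φ) (L : LinkOk D Φ Y al 𝕋)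

theorem RRep.pr_zero_apply {v : W} (h : ∀ i t, R.T (Y i) t v = v) : pr ψ (R.P L) 0 v = v := by
  classical
  have hP : ∀ x : Fin m → F, R.P L x v = v := fun x => by
    rw [← Finset.univ_sum_single x]
    generalize (Finset.univ : Finset (Fin m)) = s
    induction s using Finset.induction with
    | empty => rw [Finset.sum_empty, AddChar.map_zero_eq_one]; rfl
    | insert i s hi ih =>
      rw [Finset.sum_insert hi, AddChar.map_add_eq_mul, Module.End.mul_apply, ih, R.P_single L, h]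
  rw [pr, chi_zero, proj, LinearMap.smul_apply, LinearMap.sum_apply]
  simp only [LinearMap.smul_apply, AddChar.zero_apply, one_smul, hP, Finset.sum_const,
    Finset.card_univ]
  rw [← Nat.cast_smul_eq_nsmul ℂ, smul_smul,
    inv_mul_cancel₀ (Nat.cast_ne_zero.mpr Fintype.card_ne_zero), one_smul]

/-- The fixed space is fixed by the abelian set. -/
theorem RRep.T_range_fixed (x : LinearMap.range (pr ψ (R.P L) 0)) (i : Fin m) (t : F) :
    R.T (Y i) t (x : W) = x := by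
  classical
  obtain ⟨_, y, rfl⟩ := x
  show (R.T (Y i) t * pr ψ (R.P L) 0) y = pr ψ (R.P L) 0 y
  rw [← R.P_single L, pr, map_mul_proj, chi_zero, AddChar.zero_apply, one_smul]

theorem RRep.next_apply (h2 : ∀ k, Nil2 (𝕋.P k)) {r : ℕ} (hr : r ∈ List.ofFn al) (t : F)
    (x : LinearMap.range (pr ψ (R.P L) 0)) :
    (((R.next L h2 ψ).T r t x : LinearMap.range (pr ψ (R.P L) 0)) : W) = R.T r t (x : W) := by
  classical
  obtain ⟨k, rfl⟩ := List.mem_ofFn.1 hr
  show (((if h : _ then restrictChar _ (R.T (al k)) h else 1 : AddChar F (End ℂ (LinearMap.range (pr ψ (R.P L) 0)))) t x :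
    LinearMap.range (pr ψ (R.P L) 0)) : W) = _
  rw [dif_pos (R.commute_pr0 L h2 k)]
  rfl

variable {m' K' : ℕ} {Y' : Fin m' → ℕ} {al' : Fin K' → ℕ} {𝕋' : Tab m' K'}
  (L' : LinkOk D (List.ofFn al) Y' al' 𝕋')

/-- Roots trivial after two steps fix the vectors fixed by both abelian sets. -/
theorem RRep.fix_of_trivial (h2 : ∀ k, Nil2 (𝕋.P k)) (h2' : ∀ k, Nil2 (𝕋'.P k))
    (htriv : ∀ r ∈ List.ofFn al', ∀ t, ((R.next L h2 ψ).next L' h2' ψ).T r t = 1) {v : W}
    (hY : ∀ i t, R.T (Y i) t v = v) (hY' : ∀ i t, R.T (Y' i) t v = v) :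
    ∀ r ∈ List.ofFn al', ∀ t, R.T r t v = v := by
  intro r hr t
  let x : LinearMap.range (pr ψ (R.P L) 0) := ⟨v, v, R.pr_zero_apply L hY⟩
  have hx : ∀ i u, (R.next L h2 ψ).T (Y' i) u x = x := fun i u => Subtype.ext (by
    rw [R.next_apply L h2 (L'.1 i)]
    exact hY' i u)
  let y : LinearMap.range (pr ψ ((R.next L h2 ψ).P L') 0) :=
    ⟨x, x, (R.next L h2 ψ).pr_zero_apply L' hx⟩
  obtain ⟨k, rfl⟩ := List.mem_ofFn.1 hr
  have h1 := (R.next L h2 ψ).next_apply L' h2' (List.mem_ofFn.2 ⟨k, rfl⟩) t y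
  rw [htriv _ (List.mem_ofFn.2 ⟨k, rfl⟩) t] at h1
  have h3 := R.next_apply L h2 (L'.2.1 k) t x
  rw [show (R.next L h2 ψ).T (al' k) t x = x from h1.symm] at h3
  exact h3.symm

end CfsgLib.RootWeight
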