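import Cfsg.Agent.RootWeight.RootRep

/-!
# One step of a chain of fixed spaces

If the weights of a step are exact, a root of the next Levi set has, on the fixed space, the trace
defect of the coordinates less the number of the weights it moves.
-/

set_option autoImplicit false
set_option linter.unusedSectionVars false

namespace CfsgLib.RootWeight

open Module Cfsg.Lie CfsgLib.RepBounds CfsgLib.Chevalley

/-- An operator commuting with an idempotent of rank one is a scalar there. -/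
theorem exists_scalar {V : Type*} [AddCommGroup V] [Module ℂ V] [FiniteDimensional ℂ V] {e X : End ℂ V}
    (h1 : rnk e = 1) (hX : X * e = e * X) : ∃ c : ℂ, X * e = c • e := by
  obtain ⟨⟨w, v0, rfl⟩, hw0, hw⟩ := finrank_eq_one_iff'.mp h1
  obtain ⟨c, hc⟩ := hw ⟨X (e v0), X v0, (LinearMap.congr_fun hX v0).symm⟩
  refine ⟨c, LinearMap.ext fun v => ?_⟩
  obtain ⟨a, ha⟩ := hw ⟨e v, v, rfl⟩
  have ha' : a • e v0 = e v := congrArg Subtype.val ha
  have hc' : c • e v0 = X (e v0) := congrArg Subtype.val hc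
  rw [Module.End.mul_apply, LinearMap.smul_apply, ← ha', map_smul, ← hc', smul_comm]

variable {D : ChevalleyDatum} {F : Type*} [Field F] [Fintype F] {W : Type*} [AddCommGroup W]
  [Module ℂ W] [FiniteDimensional ℂ W] {Φ : List ℕ} {m K d : ℕ} {Y : Fin m → ℕ} {al : Fin K → ℕ}
  {𝕋 : Tab m K} {ψ : AddChar F ℂ} (R : RRep D F W Φ)

/-- A torus element fixing the weight scales the root. -/
def TorOk (D : ChevalleyDatum) (Y : Fin m → ℕ) (al : Fin K → ℕ) (s : Fin K) (μ : Fin m) (h : ℕ) : Prop :=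
  h < D.nroots ∧ D.pairing h (Y μ) = 0 ∧ (D.pairing h (al s) = 1 ∨ D.pairing h (al s) = -1)

instance (D : ChevalleyDatum) (Y : Fin m → ℕ) (al : Fin K → ℕ) (s : Fin K) (μ : Fin m) (h : ℕ) :
    Decidable (TorOk D Y al s μ h) := inferInstanceAs (Decidable (_ ∧ _))

/-- The root is a commutator of two roots fixing the weight. -/
def ComOk (D : ChevalleyDatum) (al : Fin K → ℕ) (𝕋 : Tab m K) (s : Fin K) (μ : Fin m)
    (g : Fin K × Fin K × ℤ) : Prop :=
  outOf (𝕋.P g.1) μ = [] ∧ outOf (𝕋.P g.2.1) μ = [] ∧ g.2.2 * g.2.2 = 1 ∧ al g.2.1 ≠ al g.1 ∧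
    al g.2.1 ≠ opp D (al g.1) ∧ D.commTerms (al g.1) (al g.2.1) = [(al s, g.2.2, 1, 1)]

instance (D : ChevalleyDatum) (al : Fin K → ℕ) (𝕋 : Tab m K) (s : Fin K) (μ : Fin m)
    (g : Fin K × Fin K × ℤ) : Decidable (ComOk D al 𝕋 s μ g) := inferInstanceAs (Decidable (_ ∧ _))

/-- A root and a neighbouring coordinate are joined by a root. -/
def AdjOk (D : ChevalleyDatum) (Φ : List ℕ) (Y : Fin m → ℕ) (al : Fin K → ℕ) (s : Fin K)
    (a : ℕ × Fin m × ℤ × ℤ) : Prop :=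
  a.1 ∈ Φ ∧ opp D a.1 ∈ Φ ∧
    (al s ≠ a.1 ∧ al s ≠ opp D a.1 ∧ D.commTerms a.1 (al s) = [(Y a.2.1, a.2.2.1, 1, 1)]) ∧
    (al s ≠ opp D a.1 ∧ al s ≠ opp D (opp D a.1) ∧ D.commTerms (opp D a.1) (al s) = []) ∧
    (Y a.2.1 ≠ opp D a.1 ∧ Y a.2.1 ≠ opp D (opp D a.1) ∧
      D.commTerms (opp D a.1) (Y a.2.1) = [(al s, a.2.2.2, 1, 1)]) ∧
    (Y a.2.1 ≠ a.1 ∧ Y a.2.1 ≠ opp D a.1 ∧ D.commTerms a.1 (Y a.2.1) = []) ∧
    (Y a.2.1 ≠ al s ∧ Y a.2.1 ≠ opp D (al s) ∧ D.commTerms (al s) (Y a.2.1) = []) ∧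
    a.2.2.1 * a.2.2.1 = 1 ∧ a.2.2.2 * a.2.2.2 = 1

instance (D : ChevalleyDatum) (Φ : List ℕ) (Y : Fin m → ℕ) (al : Fin K → ℕ) (s : Fin K)
    (a : ℕ × Fin m × ℤ × ℤ) : Decidable (AdjOk D Φ Y al s a) := inferInstanceAs (Decidable (_ ∧ _))

/-- The root moves exactly the first cells and commutes with the moves of the others. -/
def SideOk (D : ChevalleyDatum) (al : Fin K → ℕ) (𝕋 : Tab m K) (kM : ℕ) (s : Fin K) : Prop :=
  𝕋.MoveOk kM s ∧ ∀ μ : Fin m, kM ≤ (μ : ℕ) → ∀ e ∈ 𝕋.nb μ, μ < e.2.1 →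
    al e.1 ≠ al s ∧ al e.1 ≠ opp D (al s) ∧ D.commTerms (al s) (al e.1) = []

instance (D : ChevalleyDatum) (al : Fin K → ℕ) (𝕋 : Tab m K) (kM : ℕ) (s : Fin K) :
    Decidable (SideOk D al 𝕋 kM s) := inferInstanceAs (Decidable (_ ∧ _))

/-- The root acts trivially on the weight lines it fixes. -/
def Phase (R : RRep D F W Φ) (L : LinkOk D Φ Y al 𝕋) (ψ : AddChar F ℂ) (kM : ℕ) (s : Fin K) : Prop :=
  ∀ (μ : Fin m) (c : F), kM ≤ (μ : ℕ) → c ≠ 0 → mu ψ (R.P L) (Pi.single μ c) = 1 → ∀ a : F,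
    R.T (al s) a * pr ψ (R.P L) (Pi.single μ c) = pr ψ (R.P L) (Pi.single μ c)

variable (L : LinkOk D Φ Y al 𝕋) (hT : 𝕋.Ok d)
include hT

theorem fix_single {k : Fin K} {μ : Fin m} (h : outOf (𝕋.P k) μ = []) (a c : F) :
    R.T (al k) a * pr ψ (R.P L) (Pi.single μ c) = pr ψ (R.P L) (Pi.single μ c) * R.T (al k) a := by
  rw [T_mul_pr (R.rel L hT.1) k a, act_single_nil h]

theorem phase_of_com {kM : ℕ} {s : Fin K} (g : Fin m → Fin K × Fin K × ℤ)
    (h : ∀ μ : Fin m, kM ≤ (μ : ℕ) → ComOk D al 𝕋 s μ (g μ)) : Phase R L ψ kM s := by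
  intro μ c hμ hc hm a
  obtain ⟨h1, h2, hu, hn1, hn2, hct⟩ := h μ hμ
  set e := pr ψ (R.P L) (Pi.single μ c) with he
  have hu' : ((g μ).2.2 : F) * (g μ).2.2 = 1 := by
    exact_mod_cast congrArg (Int.cast : ℤ → F) hu
  obtain ⟨x, hx⟩ := exists_scalar (e := e) hm (fix_single R L hT h1 (-1) c)
  obtain ⟨y, hy⟩ := exists_scalar (e := e) hm (fix_single R L hT h2 (((g μ).2.2 : F) * a) c)
  have h3 := R.comm1 _ (L.2.1 (g μ).1) _ (L.2.1 (g μ).2.1) _ (L.2.1 s) (g μ).2.2 hn1 hn2 hct (-1)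
    (((g μ).2.2 : F) * a)
  rw [show ((g μ).2.2 : F) * - -1 * ((g μ).2.2 * a) = ((g μ).2.2 * (g μ).2.2) * a by ring, hu',
    one_mul] at h3
  have h4 : R.T (al (g μ).2.1) (((g μ).2.2 : F) * a) * R.T (al (g μ).1) (-1) * e =
      R.T (al (g μ).1) (-1) * R.T (al (g μ).2.1) (((g μ).2.2 : F) * a) * e := by
    rw [mul_assoc, hx, mul_smul_comm, hy, mul_assoc, hy, mul_smul_comm, hx, smul_comm]
  rw [h3] at h4
  have hinv : ∀ (r : ℕ) (t : F), R.T r (-t) * R.T r t = 1 := fun r t => by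
    rw [← AddChar.map_add_eq_mul, neg_add_cancel, AddChar.map_zero_eq_one]
  have h5 := congrArg (fun Z => R.T (al (g μ).2.1) (-(((g μ).2.2 : F) * a)) *
    (R.T (al (g μ).1) (- -1) * Z)) h4
  simp only [← mul_assoc] at h5
  rw [mul_assoc (R.T (al (g μ).2.1) _) (R.T (al (g μ).1) _) (R.T (al (g μ).1) _), hinv, mul_one,
    hinv, one_mul, one_mul] at h5
  exact h5

theorem phase_of_tor {kM : ℕ} {s : Fin K} (h : Fin m → ℕ)
    (hok : ∀ μ : Fin m, kM ≤ (μ : ℕ) → TorOk D Y al s μ (h μ)) (hfix : 𝕋.MoveOk kM s)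
    (hq : 2 < Fintype.card F) : Phase R L ψ kM s := by
  classical
  obtain ⟨u, hu⟩ : ∃ u : Fˣ, u ≠ 1 := by
    by_contra hcon
    push Not at hcon
    have : Fintype.card Fˣ ≤ 1 := Fintype.card_le_one_iff.2 fun a b => by rw [hcon a, hcon b]
    rw [Fintype.card_units] at this
    omega
  intro μ c hμ hc hm a
  obtain ⟨hh, h0, hpm⟩ := hok μ hμ
  set e := pr ψ (R.P L) (Pi.single μ c) with he
  have hsμ : outOf (𝕋.P s) μ = [] := List.eq_nil_iff_forall_not_mem.2 fun x hx => by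
    obtain ⟨h1, h2⟩ := mem_outOf.1 hx
    have := (hfix.2.1 x h1).2
    rw [h2] at this
    omega
  choose lam hlam using fun t : F => exists_scalar (e := e) hm (fix_single R L hT hsμ t c)
  have he0 : e ≠ 0 := fun h0' => by
    rw [show mu ψ (R.P L) (Pi.single μ c) = rnk e from rfl, h0', rnk, LinearMap.range_zero,
      finrank_bot] at hm
    exact zero_ne_one hm
  have hadd : ∀ x y, lam (x + y) = lam x * lam y := fun x y => by
    have h1 := hlam (x + y)
    rw [AddChar.map_add_eq_mul, mul_assoc, hlam, mul_smul_comm, hlam, smul_smul] at h1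
    exact (smul_left_injective ℂ he0 (by simpa [mul_comm] using h1.symm)).trans rfl
  set v : Fˣ := u ^ D.pairing (h μ) (al s) with hv
  have hv1 : (v : F) ≠ 1 := by
    rw [ne_eq, Units.val_eq_one, hv]
    rcases hpm with h1 | h1 <;> simp [h1, hu]
  have hscale : ∀ t, lam ((v : F) * t) = lam t := fun t => by
    have hHe := R.H_comm_pr (ψ := ψ) L hh u (Pi.single μ c) fun i => by
      by_cases hi : i = μ
      · subst hi; exact Or.inr h0
      · exact Or.inl (Pi.single_eq_of_ne hi _)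
    rw [← he] at hHe
    have h1 : R.H (h μ) u * (R.T (al s) t * e) = R.T (al s) ((v : F) * t) * (e * R.H (h μ) u) := by
      rw [← hHe, ← mul_assoc, R.scale _ hh _ (L.2.1 s), mul_assoc]
    rw [hlam, mul_smul_comm, hHe, ← mul_assoc, hlam, smul_mul_assoc] at h1
    refine (smul_left_injective ℂ ?_ h1).symm
    intro h2
    apply he0
    calc e = e * (R.H (h μ) u * R.H (h μ) u⁻¹) := by rw [R.H_inv _ hh, mul_one]
      _ = 0 := by rw [← mul_assoc, h2, zero_mul]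
  have hone : lam a = 1 := by
    have hne : lam (a / ((v : F) - 1)) ≠ 0 := fun h0' => by
      have h1 := hlam (a / ((v : F) - 1))
      rw [h0', zero_smul] at h1
      have h2 := congrArg (fun Z => R.T (al s) (-(a / ((v : F) - 1))) * Z) h1
      simp only [← mul_assoc, mul_zero, ← AddChar.map_add_eq_mul, neg_add_cancel,
        AddChar.map_zero_eq_one, one_mul] at h2
      exact he0 h2
    refine mul_left_cancel₀ hne ?_
    rw [mul_one, ← hadd, show a / ((v : F) - 1) + a = (v : F) * (a / ((v : F) - 1)) by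
      field_simp [sub_ne_zero.2 hv1]; ring, hscale]
  rw [hlam, hone, one_smul]

variable (hψ : ψ.IsPrimitive)
include hψ

open Classical in
/-- Many weights, twice the cells, or exactly the cells. -/
theorem RRep.step (hnt : ∃ i t, R.T (Y i) t ≠ 1) :
    Fintype.card F ^ (d + 2) ≤ finrank ℂ W ∨ 2 * Fintype.card (𝕋.Par F) ≤ finrank ℂ W ∨
      (Exact ψ 𝕋 (R.P L) ∧ finrank ℂ W =
        finrank ℂ (LinearMap.range (pr ψ (R.P L) 0)) + Fintype.card (𝕋.Par F)) := by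
  obtain ⟨i, t, hit⟩ := hnt
  have hne := exists_mu_ne (P := R.P L) hψ (v := Pi.single i t) (by rwa [R.P_single L])
  obtain ⟨w, h1, h2⟩ := hne
  rcases step_cases hψ (R.rel L hT.1) hT ⟨w, h1, h2⟩ with h | h | h
  · exact Or.inl ((Nat.le_add_right _ _).trans h)
  · exact Or.inr (Or.inl ((Nat.le_add_right _ _).trans h))
  · exact Or.inr (Or.inr ⟨h, finrank_eq hψ (R.rel L hT.1) hT h⟩)

open Classical in
/-- The trace defect of a root on the fixed space. -/
theorem RRep.next_trace (hE : Exact ψ 𝕋 (R.P L)) {kM : ℕ} {s : Fin K}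
    (hside : SideOk D al 𝕋 kM s) (adj : ℕ × Fin m × ℤ × ℤ) (hadj : AdjOk D Φ Y al s adj)
    (hph : Phase R L ψ kM s) {t : F} (ht : t ≠ 0) :
    (finrank ℂ (LinearMap.range (pr ψ (R.P L) 0)) : ℂ) -
        LinearMap.trace ℂ _ ((R.next L hT.1 ψ).T (al s) t) =
      (Fintype.card F : ℂ) ^ (d + 1) -
        (((Fintype.card F - 1) * ∑ μ ∈ Finset.univ.filter (fun μ : Fin m => (μ : ℕ) < kM),
          Fintype.card F ^ (𝕋.Lo μ).card : ℕ) : ℂ) := by
  obtain ⟨a1, a2, a3, a4, a5, a6, a7, hc, hc'⟩ := hadj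
  have hδ : (finrank ℂ W : ℂ) - LinearMap.trace ℂ W (R.T (al s) t) = (Fintype.card F : ℂ) ^ (d + 1) := by
    rw [R.trace_adj a1 a2 (L.2.1 s) (L.1 adj.2.1) a3 a4 a5 a6 a7 hc hc' t, ← R.P_single L]
    refine trace_coord hψ (R.rel L hT.1) hT hE _ (mul_ne_zero (fun h0 => ?_) ht)
    have := congrArg (Int.cast : ℤ → F) hc
    rw [Int.cast_mul, h0, mul_zero, Int.cast_one] at this
    exact zero_ne_one this
  have hmove := trace_move hψ (R.rel L hT.1) hT hE hside.1 ht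
    (fun μ c h1 h2 h3 _ => hph μ c h1 h2 h3 t) (fun μ h1 e he hlt b => by
      obtain ⟨n1, n2, hct⟩ := hside.2 μ h1 e he hlt
      exact (R.comm0 _ (L.2.1 s) _ (L.2.1 e.1) n1 n2 hct t b).symm)
  rw [show (fun k => R.T (al k)) s t = R.T (al s) t from rfl, hδ,
    hT.card_par (F := F) (fun μ => (μ : ℕ) < kM)] at hmove
  rw [R.trace_next L hT.1, show finrank ℂ (LinearMap.range (pr ψ (R.P L) 0)) = mu ψ (R.P L) 0 from rfl,
    hmove]
  ring

/-- The next fixed space is not trivial for the root. -/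
theorem RRep.next_nontrivial (hE : Exact ψ 𝕋 (R.P L)) {kM : ℕ} {s : Fin K}
    (hside : SideOk D al 𝕋 kM s) (adj : ℕ × Fin m × ℤ × ℤ) (hadj : AdjOk D Φ Y al s adj)
    (hph : Phase R L ψ kM s)
    (hne : (Fintype.card F - 1) * ∑ μ ∈ Finset.univ.filter (fun μ : Fin m => (μ : ℕ) < kM),
      Fintype.card F ^ (𝕋.Lo μ).card ≠ Fintype.card F ^ (d + 1)) :
    ∃ t, (R.next L hT.1 ψ).T (al s) t ≠ 1 := by
  refine ⟨1, fun h => hne ?_⟩
  have h1 := R.next_trace L hT hψ hE hside adj hadj hph (one_ne_zero (α := F))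
  rw [h, LinearMap.trace_one, sub_self, eq_comm, sub_eq_zero] at h1
  exact_mod_cast h1.symm

omit hT

/-- A root with constant trace defect `q` moves at least `q - 1` dimensions. -/
theorem RRep.last (r : ℕ) (h : ∀ t : F, t ≠ 0 →
    (finrank ℂ W : ℂ) - LinearMap.trace ℂ W (R.T r t) = Fintype.card F) :
    Fintype.card F - 1 ≤ finrank ℂ W := by
  classical
  have h0 := trace_proj (R.T r) 0
  rw [proj, map_smul, map_sum, smul_eq_mul] at h0
  simp only [map_smul, AddChar.zero_apply, smul_eq_mul, one_mul] at h0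
  rw [← Finset.add_sum_erase _ _ (Finset.mem_univ (0 : F)), AddChar.map_zero_eq_one,
    LinearMap.trace_one, Finset.sum_congr rfl fun t ht =>
      show LinearMap.trace ℂ W (R.T r t) = (finrank ℂ W : ℂ) - Fintype.card F by
        rw [← h t (Finset.mem_erase.1 ht).1]; ring,
    Finset.sum_const, Finset.card_erase_of_mem (Finset.mem_univ _), Finset.card_univ, nsmul_eq_mul,
    Nat.cast_sub Fintype.card_pos, Nat.cast_one, inv_mul_eq_iff_eq_mul₀
      (Nat.cast_ne_zero.2 Fintype.card_ne_zero)] at h0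
  have h1 : (finrank ℂ W : ℂ) + 1 = (mult (R.T r) 0 : ℂ) + Fintype.card F := by
    refine mul_left_cancel₀ (Nat.cast_ne_zero.2 (Fintype.card_ne_zero (α := F)) : (Fintype.card F : ℂ) ≠ 0) ?_
    linear_combination h0
  have h2 : finrank ℂ W + 1 = mult (R.T r) 0 + Fintype.card F := by exact_mod_cast h1
  omega

end CfsgLib.RootWeight
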