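import Cfsg.Agent.RootWeight.GroupOps
import Mathlib.GroupTheory.GroupAction.ConjAct

/-!
# An orbit in an abelian set divides a centralizer

Moves commuting with a root element permute the non-zero elements of an abelian set transitively, so
their number divides the order of the centralizer of that element.
-/

set_option autoImplicit false

namespace CfsgLib.RootWeight

open Module Cfsg.Lie CfsgLib.Chevalley

variable {m K : ℕ}

/-- Sources and targets exchanged. -/
def flipP (p : Pairs m) : Pairs m := p.map fun e => (e.2.1, e.1, e.2.2)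

/-- The table with all moves exchanged. -/
def Tab.flip (𝕋 : Tab m K) : Tab m K where
  P k := flipP (𝕋.P k)
  nb _ := []
  bt _ _ := []

variable {F : Type*} [Field F]

theorem dual_flipP (p : Pairs m) (a : F) (v : Fin m → F) : dual (flipP p) a v = act p a v := by
  funext j
  rw [dual, act]
  congr 3
  rw [outOf, into, flipP, List.filter_map, List.map_map]
  rfl

variable {D : ChevalleyDatum} {Y : Fin m → ℕ} {al : Fin K → ℕ} {𝕋 : Tab m K} {d : ℕ}

/-- A root homomorphism into the group. -/
noncomputable def xGHom (hW : GoodWeyl D) (r : ℕ) : Multiplicative F →* D.group F where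
  toFun t := if h : r < D.nroots then xG hW ⟨r, h⟩ t.toAdd else 1
  map_one' := by split_ifs with h <;> simp [xG_zero]
  map_mul' a b := by split_ifs with h <;> simp [xG_mul]

theorem xGHom_apply (hW : GoodWeyl D) {r : ℕ} (h : r < D.nroots) (t : F) :
    xGHom hW r (Multiplicative.ofAdd t) = xG hW ⟨r, h⟩ t := dif_pos h

section

variable (hW : GoodWeyl D) (L : LinkOk D (List.range D.nroots) Y al 𝕋)
include L

theorem xGHom_commute_Y :
    Pairwise fun i j => ∀ x y : Multiplicative F, Commute (xGHom hW (Y i) x) (xGHom hW (Y j) y) := by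
  intro i j hij x y
  obtain ⟨h1, h2, h3⟩ := L.2.2.1 i j hij
  have hi := List.mem_range.1 (L.1 i)
  have hj := List.mem_range.1 (L.1 j)
  rw [← ofAdd_toAdd x, ← ofAdd_toAdd y, xGHom_apply hW hi, xGHom_apply hW hj]
  exact (xG_commute hW (r := ⟨_, hi⟩) (s := ⟨_, hj⟩) h2 h3 h1 _ _).symm

/-- The elements of the abelian set. -/
noncomputable def zG (v : Fin m → F) : D.group F :=
  MonoidHom.noncommPiCoprod (fun i => xGHom hW (Y i)) (xGHom_commute_Y hW L)
    fun i => Multiplicative.ofAdd (v i)

theorem zG_add (v w : Fin m → F) : zG hW L (v + w) = zG hW L v * zG hW L w :=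
  (map_mul _ (fun i => Multiplicative.ofAdd (v i)) fun i => Multiplicative.ofAdd (w i))

theorem zG_zero : zG hW L (0 : Fin m → F) = 1 :=
  map_one (MonoidHom.noncommPiCoprod (fun i => xGHom hW (Y i)) (xGHom_commute_Y hW L) :
    (Fin m → Multiplicative F) →* D.group F)

theorem zG_single (i : Fin m) (x : F) :
    zG hW L (Pi.single i x) = xG hW ⟨Y i, List.mem_range.1 (L.1 i)⟩ x := by
  classical
  rw [← xGHom_apply hW (List.mem_range.1 (L.1 i)), zG]
  have e : (fun j => Multiplicative.ofAdd ((Pi.single i x : Fin m → F) j)) =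
      Pi.mulSingle i (Multiplicative.ofAdd x) := by
    funext j
    by_cases h : j = i
    · subst h; simp
    · simp [Pi.single_eq_of_ne h, Pi.mulSingle_eq_of_ne h]
  rw [e]
  exact MonoidHom.noncommPiCoprod_mulSingle _ _ _

theorem zG_move [Fintype F] (h2 : ∀ k, Nil2 (𝕋.P k)) (k : Fin K) (a : F) (v : Fin m → F) :
    zG hW L v * xG hW ⟨al k, List.mem_range.1 (L.2.1 k)⟩ a =
      xG hW ⟨al k, List.mem_range.1 (L.2.1 k)⟩ a * zG hW L (dual (𝕋.P k) (-a) v) := by
  classical
  set X := xG hW ⟨al k, List.mem_range.1 (L.2.1 k)⟩ a with hX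
  rw [← Finset.univ_sum_single v]
  generalize (Finset.univ : Finset (Fin m)) = s
  induction s using Finset.induction with
  | empty =>
    have e : dual (𝕋.P k) (-a) (0 : Fin m → F) = 0 := (dualEquiv (𝕋.P k) (h2 k) (-a)).map_zero
    rw [Finset.sum_empty, e, zG_zero, one_mul, mul_one]
  | insert i s hi ih =>
    have hone : zG hW L (Pi.single i (v i)) * X =
        X * zG hW L (dual (𝕋.P k) (-a) (Pi.single i (v i))) := by
      obtain ⟨n1, n2, hlen, hc⟩ := L.2.2.2 k i
      rcases hl : into (𝕋.P k) i with _ | ⟨e, l⟩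
      · rw [hl] at hc
        rw [dual_single_nil hl, zG_single, hX]
        exact (xG_commute hW (r := ⟨_, List.mem_range.1 (L.2.1 k)⟩)
          (s := ⟨_, List.mem_range.1 (L.1 i)⟩) n1 n2 hc a (v i)).eq
      · rw [hl] at hlen hc
        obtain rfl : l = [] := List.length_eq_zero_iff.1 (by simp at hlen; simpa using hlen)
        have hei : e.1 = i := (mem_into.1 (hl ▸ List.mem_singleton_self e)).2
        rw [dual_single_one (j := e.2.1) (c := e.2.2) (by rw [hl, ← hei]), zG_add, zG_single,
          zG_single, ← mul_assoc, hX]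
        rw [xG_comm hW (r := ⟨_, List.mem_range.1 (L.2.1 k)⟩) (s := ⟨_, List.mem_range.1 (L.1 i)⟩)
          (l := ⟨_, List.mem_range.1 (L.1 e.2.1)⟩) e.2.2 n1 n2 (by simpa using hc) a (v i),
          show (e.2.2 : F) * -a * v i = -a * ((e.2.2 : F) * v i) by ring]
    rw [Finset.sum_insert hi, zG_add, mul_assoc, ih, ← mul_assoc, hone, mul_assoc, ← zG_add,
      ← dual_map_add]

end

/-- The non-zero elements of the abelian set form one orbit under a subgroup of the centralizer. -/
theorem card_dvd_centralizer [Fintype F] (hW : GoodWeyl D) (hT : 𝕋.Ok d)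
    (L : LinkOk D (List.range D.nroots) Y al 𝕋.flip) (hm : m < d + 2) (i0 : Fin m) (θ : Root D)
    (hθ : ∀ k, al k ≠ θ ∧ al k ≠ opp D θ ∧ D.commTerms θ (al k) = []) :
    Fintype.card F ^ m - 1 ∣
      Nat.card (Subgroup.centralizer ({xG hW θ (1 : F)} : Set (D.group F))) := by
  classical
  have h2 : ∀ k, Nil2 (𝕋.flip.P k) := fun k e he => List.eq_nil_iff_forall_not_mem.2 fun x hx => by
    obtain ⟨e', he', rfl⟩ := List.mem_map.1 (show e ∈ (𝕋.P k).map _ from he)
    obtain ⟨h1, h3⟩ := mem_into.1 hx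
    obtain ⟨x', hx', rfl⟩ := List.mem_map.1 (show x ∈ (𝕋.P k).map _ from h1)
    have : e' ∈ into (𝕋.P k) x'.2.1 := mem_into.2 ⟨he', h3.symm⟩
    rw [hT.1 k x' hx'] at this
    simp at this
  let X : Fin K → F → D.group F := fun k a => xG hW ⟨al k, List.mem_range.1 (L.2.1 k)⟩ a
  let gens : Set (D.group F) := {g | ∃ k a, X k a = g}
  let H := Subgroup.closure gens
  have hHC : H ≤ Subgroup.centralizer ({xG hW θ (1 : F)} : Set (D.group F)) := by
    refine (Subgroup.closure_le _).2 ?_
    rintro _ ⟨k, a, rfl⟩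
    refine Subgroup.mem_centralizer_singleton_iff.2 ?_
    obtain ⟨n1, n2, n3⟩ := hθ k
    exact (xG_commute hW (r := θ) (s := ⟨_, List.mem_range.1 (L.2.1 k)⟩) n1 n2 n3 1 a).eq
  refine Nat.dvd_trans ?_ (Subgroup.card_dvd_of_le hHC)
  have hmove : ∀ k a v, (X k a)⁻¹ * zG hW L v * X k a = zG hW L (act (𝕋.P k) (-a) v) := fun k a v => by
    rw [mul_assoc, zG_move hW L h2, ← mul_assoc, inv_mul_cancel, one_mul]
    exact congrArg (zG hW L) (dual_flipP (𝕋.P k) (-a) v)
  -- the kernel of the parametrisation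
  have hall : ∀ Q : (Fin m → F) → Prop, Inv 𝕋.P Q → ∀ w, Q w → w ≠ 0 → ∀ x : 𝕋.Par F, Q (𝕋.point x) := by
    intro Q hQ w hw hw0
    rcases hT.cases hQ ⟨w, hw, hw0⟩ with ⟨S, hS, -⟩ | ⟨h, -, -⟩
    · exfalso
      have h1 : S.card ≤ Fintype.card (Fin m → F) := S.card_le_univ
      rw [hS, Fintype.card_fun, Fintype.card_fin] at h1
      exact absurd h1 (not_le.2 (Nat.pow_lt_pow_right Fintype.one_lt_card hm))
    · exact h
  have hsurj : ∀ w : Fin m → F, w ≠ 0 → ∃ x : 𝕋.Par F, 𝕋.point x = w := by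
    intro w hw0
    rcases hT.cases (Q := fun _ => True) (fun _ _ _ _ => trivial) ⟨w, trivial, hw0⟩ with ⟨S, hS, -⟩ | ⟨-, h, -⟩
    · exfalso
      have h1 : S.card ≤ Fintype.card (Fin m → F) := S.card_le_univ
      rw [hS, Fintype.card_fun, Fintype.card_fin] at h1
      exact absurd h1 (not_le.2 (Nat.pow_lt_pow_right Fintype.one_lt_card hm))
    · exact h w trivial hw0
  set e0 : Fin m → F := Pi.single i0 1 with he0
  have hinj : ∀ v : Fin m → F, zG hW L v = 1 → v = 0 := by
    intro v hv
    by_contra hv0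
    obtain ⟨x, hx⟩ := hsurj e0 (by simp [he0])
    have h1 := hall (fun w => zG hW L w = 1) (fun k a w hw => by
      show zG hW L _ = 1
      rw [← neg_neg a, ← hmove, show zG hW L w = 1 from hw]; group) v hv hv0 x
    rw [hx, he0, zG_single] at h1
    exact one_ne_zero (α := F) (X_injective hW.good _
      ((congrArg Subtype.val h1).trans (X_zero hW.good _).symm))
  have hzinj : Function.Injective (zG hW L : (Fin m → F) → D.group F) := fun v w h => by
    refine sub_eq_zero.1 (hinj _ (mul_right_cancel (b := zG hW L w) ?_))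
    rw [← zG_add, sub_add_cancel, h, one_mul]
  let _ : MulAction H (D.group F) :=
    MulAction.compHom _ ((ConjAct.toConjAct (G := D.group F)).toMonoidHom.comp H.subtype)
  have hsmul : ∀ (h : H) (g : D.group F), h • g = (h : D.group F) * g * (h : D.group F)⁻¹ :=
    fun h g => ConjAct.toConjAct_smul _ _
  have horb : MulAction.orbit H (zG hW L e0) = zG hW L '' {v : Fin m → F | v ≠ 0} := by
    refine Set.Subset.antisymm ?_ ?_
    · rintro g ⟨⟨h, hh⟩, rfl⟩
      show (⟨h, hh⟩ : H) • zG hW L e0 ∈ _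
      rw [hsmul]
      have hstep : ∀ k a (v : Fin m → F), v ≠ 0 → ∃ w, w ≠ 0 ∧ zG hW L w = X k a * zG hW L v * (X k a)⁻¹ := by
        intro k a v hv
        refine ⟨act (𝕋.P k) a v, fun h0 => hv ?_, ?_⟩
        · rw [← act_neg_act (hT.1 k) a v, h0, act_apply_zero]
        · have e := hmove k a (act (𝕋.P k) a v)
          rw [act_neg_act (hT.1 k)] at e
          rw [← e]; group
      suffices ∀ v : Fin m → F, v ≠ 0 → h * zG hW L v * h⁻¹ ∈ zG hW L '' {v : Fin m → F | v ≠ 0} from
        this e0 (by simp [he0])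
      induction hh using Subgroup.closure_induction'' with
      | one => exact fun v hv => ⟨v, hv, by group⟩
      | mem x hx =>
        obtain ⟨k, a, rfl⟩ := hx
        intro v hv
        obtain ⟨w, hw, e⟩ := hstep k a v hv
        exact ⟨w, hw, e⟩
      | inv_mem x hx =>
        obtain ⟨k, a, rfl⟩ := hx
        intro v hv
        obtain ⟨w, hw, e⟩ := hstep k (-a) v hv
        have : (X k a)⁻¹ = X k (-a) := inv_eq_of_mul_eq_one_right (by
          simp only [X]; rw [xG_mul, add_neg_cancel, xG_zero])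
        exact ⟨w, hw, by rw [this, e]⟩
      | mul x y _ _ hx hy =>
        intro v hv
        obtain ⟨w, hw, e⟩ := hy v hv
        obtain ⟨w', hw', e'⟩ := hx w hw
        exact ⟨w', hw', by rw [e', e]; group⟩
    · rintro _ ⟨v, hv, rfl⟩
      obtain ⟨x, rfl⟩ := hsurj v hv
      refine hall (fun w => zG hW L w ∈ MulAction.orbit H (zG hW L e0)) (fun k a w hw => ?_) e0
        (MulAction.mem_orbit_self _) (by simp [he0]) x
      obtain ⟨⟨h, hh⟩, e⟩ := hw
      refine ⟨⟨(X k (-a))⁻¹ * h, H.mul_mem (H.inv_mem (Subgroup.subset_closure ⟨k, -a, rfl⟩)) hh⟩, ?_⟩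
      have e' : h * zG hW L e0 * h⁻¹ = zG hW L w := (hsmul ⟨h, hh⟩ _).symm.trans e
      show (⟨(X k (-a))⁻¹ * h, _⟩ : H) • zG hW L e0 = _
      rw [hsmul, ← neg_neg a, ← hmove, ← e']
      simp only [neg_neg, mul_inv_rev, inv_inv]
      group
  have hcard : Nat.card (MulAction.orbit H (zG hW L e0)) = Fintype.card F ^ m - 1 := by
    rw [horb, Nat.card_image_of_injective hzinj]
    have : Nat.card {v : Fin m → F | v ≠ 0} = Fintype.card {v : Fin m → F // v ≠ 0} := by
      rw [← Nat.card_eq_fintype_card]; rfl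
    rw [this, Fintype.card_subtype_compl, Fintype.card_subtype_eq, Fintype.card_fun, Fintype.card_fin]
  rw [← hcard, ← Nat.card_congr (MulAction.orbitProdStabilizerEquivGroup H (zG hW L e0)),
    Nat.card_prod]
  exact dvd_mul_right _ _

end CfsgLib.RootWeight
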