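import Mathlib

/-!
# Coordinates moved by root elements

A root element acts on the weight vectors of an abelian unipotent group by adding multiples of some
coordinates to others; the moves are recorded as lists of triples `(target, source, constant)`.
-/

set_option autoImplicit false

namespace CfsgLib.RootWeight

/-- A move: triples `(target, source, constant)`. -/
abbrev Pairs (m : ℕ) : Type := List (Fin m × Fin m × ℤ)

variable {m K : ℕ}

/-- The triples with target `i`. -/
def into (p : Pairs m) (i : Fin m) : Pairs m := p.filter fun e => decide (e.1 = i)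

/-- The triples with source `j`. -/
def outOf (p : Pairs m) (j : Fin m) : Pairs m := p.filter fun e => decide (e.2.1 = j)

/-- No source of a move is a target of it. -/
def Nil2 (p : Pairs m) : Prop := ∀ e ∈ p, into p e.2.1 = []

instance (p : Pairs m) : Decidable (Nil2 p) := inferInstanceAs (Decidable (∀ e ∈ p, into p e.2.1 = []))

theorem mem_into {p : Pairs m} {i : Fin m} {e : Fin m × Fin m × ℤ} :
    e ∈ into p i ↔ e ∈ p ∧ e.1 = i := by simp [into]

theorem mem_outOf {p : Pairs m} {j : Fin m} {e : Fin m × Fin m × ℤ} :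
    e ∈ outOf p j ↔ e ∈ p ∧ e.2.1 = j := by simp [outOf]

theorem Nil2.outOf_eq {p : Pairs m} (h : Nil2 p) {e : Fin m × Fin m × ℤ} (he : e ∈ p) :
    outOf p e.1 = [] := by
  refine List.eq_nil_iff_forall_not_mem.2 fun e' he' => ?_
  obtain ⟨h1, h2⟩ := mem_outOf.1 he'
  have : e ∈ into p e'.2.1 := mem_into.2 ⟨he, h2.symm⟩
  rw [h e' h1] at this
  simp at this

variable {F : Type*} [Field F]

/-- The action of a move on weight vectors. -/
def act (p : Pairs m) (a : F) (w : Fin m → F) : Fin m → F :=
  fun i => w i + a * ((into p i).map fun e => (e.2.2 : F) * w e.2.1).sum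

/-- The action of a move on the coordinates of the group. -/
def dual (p : Pairs m) (a : F) (v : Fin m → F) : Fin m → F :=
  fun j => v j + a * ((outOf p j).map fun e => (e.2.2 : F) * v e.1).sum

theorem act_of_nil {p : Pairs m} {i : Fin m} (h : into p i = []) (a : F) (w : Fin m → F) :
    act p a w i = w i := by simp [act, h]

theorem act_of_single {p : Pairs m} {i j : Fin m} {c : ℤ} (h : into p i = [(i, j, c)]) (a : F)
    (w : Fin m → F) : act p a w i = w i + a * ((c : F) * w j) := by simp [act, h]

@[simp] theorem act_zero (p : Pairs m) (w : Fin m → F) : act p 0 w = w := by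
  funext i; simp [act]

theorem act_apply_zero (p : Pairs m) (a : F) : act p a (0 : Fin m → F) = 0 := by
  funext i; simp [act]

theorem act_add {p : Pairs m} (h : Nil2 p) (a b : F) (w : Fin m → F) :
    act p a (act p b w) = act p (a + b) w := by
  funext i
  have e : ∀ x ∈ into p i, (x.2.2 : F) * act p b w x.2.1 = (x.2.2 : F) * w x.2.1 := fun x hx => by
    rw [act_of_nil (h x (mem_into.1 hx).1)]
  conv_lhs => rw [act, List.map_congr_left e]
  simp only [act]
  ring

theorem act_neg_act {p : Pairs m} (h : Nil2 p) (a : F) (w : Fin m → F) :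
    act p (-a) (act p a w) = w := by rw [act_add h, neg_add_cancel, act_zero]

theorem dual_add {p : Pairs m} (h : Nil2 p) (a b : F) (v : Fin m → F) :
    dual p a (dual p b v) = dual p (a + b) v := by
  funext j
  have e : ∀ x ∈ outOf p j, (x.2.2 : F) * dual p b v x.1 = (x.2.2 : F) * v x.1 := fun x hx => by
    simp [dual, h.outOf_eq (mem_outOf.1 hx).1]
  conv_lhs => rw [dual, List.map_congr_left e]
  simp only [dual]
  ring

@[simp] theorem dual_zero (p : Pairs m) (v : Fin m → F) : dual p 0 v = v := by
  funext i; simp [dual]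

theorem sum_filter_map (p : Pairs m) (g : Fin m × Fin m × ℤ → F) (sel : Fin m × Fin m × ℤ → Fin m)
    (f : Fin m → F) :
    ∑ i, f i * ((p.filter fun e => decide (sel e = i)).map g).sum =
      (p.map fun e => f (sel e) * g e).sum := by
  induction p with
  | nil => simp
  | cons e p ih =>
    have : ∀ i, f i * (((e :: p).filter fun e => decide (sel e = i)).map g).sum =
        (if sel e = i then f i * g e else 0) + f i * ((p.filter fun e => decide (sel e = i)).map g).sum := by
      intro i
      by_cases hi : sel e = i <;> simp [List.filter_cons, hi, mul_add]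
    simp only [this, Finset.sum_add_distrib, ih, Finset.sum_ite_eq, Finset.mem_univ, if_true,
      List.map_cons, List.sum_cons]

theorem dot_act (p : Pairs m) (a : F) (v w : Fin m → F) :
    ∑ i, v i * act p a w i = ∑ j, dual p a v j * w j := by
  simp only [act, dual, mul_add, add_mul, Finset.sum_add_distrib]
  congr 1
  have h1 := sum_filter_map p (fun e => (e.2.2 : F) * w e.2.1) (fun e => e.1) v
  have h2 := sum_filter_map p (fun e => (e.2.2 : F) * v e.1) (fun e => e.2.1) w
  calc ∑ i, v i * (a * ((into p i).map fun e => (e.2.2 : F) * w e.2.1).sum)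
      = a * (p.map fun e => v e.1 * ((e.2.2 : F) * w e.2.1)).sum := by
        rw [← h1, Finset.mul_sum]; exact Finset.sum_congr rfl fun i _ => by rw [into]; ring
    _ = a * (p.map fun e => w e.2.1 * ((e.2.2 : F) * v e.1)).sum := by
        congr 2; exact List.map_congr_left fun e _ => by ring
    _ = _ := by
        rw [← h2, Finset.mul_sum]; exact Finset.sum_congr rfl fun i _ => by rw [outOf]; ring

theorem dual_map_add (p : Pairs m) (a : F) (v v' : Fin m → F) :
    dual p a (v + v') = dual p a v + dual p a v' := by
  funext j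
  simp only [dual, Pi.add_apply, mul_add, List.sum_map_add]
  ring

/-- The action on group coordinates as an automorphism. -/
def dualEquiv (p : Pairs m) (h : Nil2 p) (a : F) : (Fin m → F) ≃+ (Fin m → F) where
  toFun := dual p a
  invFun := dual p (-a)
  left_inv v := by rw [dual_add h, neg_add_cancel, dual_zero]
  right_inv v := by rw [dual_add h, add_neg_cancel, dual_zero]
  map_add' := dual_map_add p a

/-- An entry: a move, the coordinate it creates, and its constant. -/
abbrev Ent (K m : ℕ) : Type := Fin K × Fin m × ℤ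

/-- A product of moves, the parameter of each read at its target. -/
def fl (P : Fin K → Pairs m) (L : List (Ent K m)) (t w : Fin m → F) : Fin m → F :=
  L.foldr (fun e w => act (P e.1) (t e.2.1) w) w

/-- The inverse product. -/
def unfl (P : Fin K → Pairs m) (L : List (Ent K m)) (t w : Fin m → F) : Fin m → F :=
  L.foldl (fun w e => act (P e.1) (-t e.2.1) w) w

variable {P : Fin K → Pairs m}

theorem fl_unfl : ∀ {L : List (Ent K m)}, (∀ e ∈ L, Nil2 (P e.1)) → ∀ t w : Fin m → F,
    fl P L t (unfl P L t w) = w
  | [], _, _, _ => rfl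
  | e :: L, h, t, w => by
    show act (P e.1) (t e.2.1) (fl P L t (unfl P L t (act (P e.1) (-t e.2.1) w))) = w
    rw [fl_unfl (fun x hx => h x (List.mem_cons_of_mem _ hx)), act_add (h e List.mem_cons_self),
      add_neg_cancel, act_zero]

theorem unfl_fl : ∀ {L : List (Ent K m)}, (∀ e ∈ L, Nil2 (P e.1)) → ∀ t w : Fin m → F,
    unfl P L t (fl P L t w) = w
  | [], _, _, _ => rfl
  | e :: L, h, t, w => by
    show unfl P L t (act (P e.1) (-t e.2.1) (act (P e.1) (t e.2.1) (fl P L t w))) = w
    rw [act_neg_act (h e List.mem_cons_self), unfl_fl (fun x hx => h x (List.mem_cons_of_mem _ hx))]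

theorem fl_congr : ∀ {L : List (Ent K m)} {t t' : Fin m → F} (w : Fin m → F),
    (∀ e ∈ L, t e.2.1 = t' e.2.1) → fl P L t w = fl P L t' w
  | [], _, _, _, _ => rfl
  | e :: L, t, t', w, h => by
    show act (P e.1) (t e.2.1) (fl P L t w) = act (P e.1) (t' e.2.1) (fl P L t' w)
    rw [h e List.mem_cons_self, fl_congr w fun x hx => h x (List.mem_cons_of_mem _ hx)]

/-- The coordinate `src` is untouched and each entry creates its target from `src` alone. -/
def Clean (P : Fin K → Pairs m) (src : Fin m) (L : List (Ent K m)) : Prop :=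
  (L.map fun e => e.2.1).Nodup ∧ ∀ e ∈ L, into (P e.1) src = [] ∧ e.2.2 * e.2.2 = 1 ∧
    ∀ e' ∈ L, into (P e.1) e'.2.1 = if e'.2.1 = e.2.1 then [(e.2.1, src, e.2.2)] else []

instance (P : Fin K → Pairs m) (src : Fin m) (L : List (Ent K m)) : Decidable (Clean P src L) :=
  inferInstanceAs (Decidable (_ ∧ _))

theorem Clean.cast_ne_zero {src : Fin m} {L : List (Ent K m)} (h : Clean P src L) {e : Ent K m}
    (he : e ∈ L) : (e.2.2 : F) ≠ 0 := fun h0 => by
  have := congrArg (Int.cast : ℤ → F) (h.2 e he).2.1
  rw [Int.cast_mul, h0, mul_zero, Int.cast_one] at this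
  exact zero_ne_one this

theorem Clean.fl_aux {src : Fin m} {L : List (Ent K m)} (h : Clean P src L) (t w : Fin m → F) :
    ∀ L' : List (Ent K m), L' ⊆ L → (L'.map fun e => e.2.1).Nodup →
      fl P L' t w src = w src ∧ ∀ e' ∈ L, fl P L' t w e'.2.1 =
        w e'.2.1 + if e'.2.1 ∈ L'.map (fun e => e.2.1) then t e'.2.1 * ((e'.2.2 : F) * w src) else 0 := by
  intro L'
  induction L' with
  | nil => simp [fl]
  | cons e L' ih =>
    intro hs hn
    rw [List.map_cons, List.nodup_cons] at hn
    obtain ⟨h1, h2⟩ := ih (fun x hx => hs (List.mem_cons_of_mem _ hx)) hn.2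
    have he : e ∈ L := hs List.mem_cons_self
    obtain ⟨hn1, -, hT⟩ := h.2 e he
    refine ⟨?_, fun e' he' => ?_⟩
    · show act (P e.1) (t e.2.1) (fl P L' t w) src = w src
      rw [act_of_nil hn1, h1]
    show act (P e.1) (t e.2.1) (fl P L' t w) e'.2.1 = _
    by_cases hee : e'.2.1 = e.2.1
    · have heq : e' = e := List.inj_on_of_nodup_map h.1 he' he hee
      subst heq
      rw [act_of_single (by rw [hT e' he', if_pos rfl]), h1, h2 e' he', if_neg hn.1,
        if_pos (by simp)]
      ring
    · rw [act_of_nil (by rw [hT e' he', if_neg hee]), h2 e' he']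
      simp only [List.map_cons, List.mem_cons, hee, false_or]

theorem Clean.fl_src {src : Fin m} {L : List (Ent K m)} (h : Clean P src L) (t w : Fin m → F) :
    fl P L t w src = w src := (h.fl_aux t w L (fun _ hx => hx) h.1).1

theorem Clean.fl_tgt {src : Fin m} {L : List (Ent K m)} (h : Clean P src L) (t w : Fin m → F)
    {e : Ent K m} (he : e ∈ L) :
    fl P L t w e.2.1 = w e.2.1 + t e.2.1 * ((e.2.2 : F) * w src) := by
  rw [(h.fl_aux t w L (fun _ hx => hx) h.1).2 e he,
    if_pos (List.mem_map.2 ⟨e, he, rfl⟩)]

/-- The targets of an entry list. -/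
def tgts (L : List (Ent K m)) : List (Fin m) := L.map fun e => e.2.1

end CfsgLib.RootWeight
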