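import Cfsg.Agent.RootWeight.Coord

/-!
# Orbits of weight vectors under the moves of a table

Either an invariant set of vectors contains a large orbit, or its non-zero members are exactly the
translates of the vectors with a single non-zero coordinate, which are parametrised by cells.
-/

set_option autoImplicit false

namespace CfsgLib.RootWeight

variable {m K : ℕ}

/-- The tables of a step. -/
structure Tab (m K : ℕ) where
  /-- The moves. -/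
  P : Fin K → Pairs m
  /-- The moves from a coordinate to its neighbours. -/
  nb : Fin m → List (Ent K m)
  /-- Two moves spreading a coordinate that is no neighbour. -/
  bt : Fin m → Fin m → List (Ent K m)

/-- The neighbours of a coordinate. -/
def Tab.T (𝕋 : Tab m K) (μ : Fin m) : List (Fin m) := tgts (𝕋.nb μ)

/-- The spreading moves keep a coordinate and its neighbours. -/
def Tab.Spread (𝕋 : Tab m K) (μ ν : Fin m) : Prop :=
  Clean 𝕋.P ν (𝕋.bt μ ν) ∧ (𝕋.bt μ ν).length = 2 ∧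
    ∀ e ∈ 𝕋.bt μ ν, into (𝕋.P e.1) μ = [] ∧ e.2.1 ∉ 𝕋.T μ ∧
      ∀ e' ∈ 𝕋.nb μ, ∀ pr ∈ into (𝕋.P e.1) e'.2.1, pr.2.1 ∈ 𝕋.T μ

set_option synthInstance.maxSize 2048 in
instance (𝕋 : Tab m K) (μ ν : Fin m) : Decidable (𝕋.Spread μ ν) := by unfold Tab.Spread; infer_instance

/-- The spreading moves keep vectors supported on two coordinates and the new ones, and every other
coordinate spreads. -/
def Tab.Lone (𝕋 : Tab m K) (μ ν : Fin m) : Prop :=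
  Clean 𝕋.P ν (𝕋.bt μ ν) ∧ (𝕋.bt μ ν).length = 2 ∧
    (∀ e ∈ 𝕋.bt μ ν, e.2.1 ∉ 𝕋.T μ ∧ e.2.1 ≠ μ ∧ e.2.1 ≠ ν ∧
      ∀ pr ∈ 𝕋.P e.1, pr.2.1 ∈ μ :: ν :: tgts (𝕋.bt μ ν) → pr.1 ∈ tgts (𝕋.bt μ ν)) ∧
    ∀ ν', ν' ≠ μ → ν' ∉ 𝕋.T μ → ν' ≠ ν → 𝕋.Spread μ ν'

set_option synthInstance.maxSize 2048 in
instance (𝕋 : Tab m K) (μ ν : Fin m) : Decidable (𝕋.Lone μ ν) := by unfold Tab.Lone; infer_instance

/-- The checks on the tables. -/
def Tab.Ok (𝕋 : Tab m K) (d : ℕ) : Prop :=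
  (∀ k, Nil2 (𝕋.P k)) ∧
  (∀ μ, Clean 𝕋.P μ (𝕋.nb μ) ∧ (𝕋.nb μ).length = d ∧ 𝕋.nb μ ≠ [] ∧
    ∀ e ∈ 𝕋.nb μ, outOf (𝕋.P e.1) μ = [(e.2.1, μ, e.2.2)] ∧ μ ≠ e.2.1 ∧ μ ∈ 𝕋.T e.2.1 ∧
      (μ < e.2.1 → ∀ pr ∈ 𝕋.P e.1, pr.1 < μ → pr.2.1 < μ)) ∧
  (∀ μ ν, ν = μ ∨ ν ∈ 𝕋.T μ ∨ ∃ e ∈ 𝕋.nb μ, ν ∈ 𝕋.T e.2.1 ∨ ∃ e' ∈ 𝕋.nb e.2.1, ν ∈ 𝕋.T e'.2.1) ∧
  (∀ μ ν, ν ≠ μ → ν ∉ 𝕋.T μ → 𝕋.Spread μ ν ∨ 𝕋.Lone μ ν)

set_option synthInstance.maxSize 2048 in
instance (𝕋 : Tab m K) (d : ℕ) : Decidable (𝕋.Ok d) := by unfold Tab.Ok; infer_instance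

/-- The neighbours as a finite set. -/
def Tab.Ts (𝕋 : Tab m K) (μ : Fin m) : Finset (Fin m) := (𝕋.T μ).toFinset

/-- The neighbours after a coordinate. -/
def Tab.Lo (𝕋 : Tab m K) (μ : Fin m) : Finset (Fin m) := (𝕋.Ts μ).filter fun i => μ < i

variable {F : Type*} [Field F]

/-- A function on a set of coordinates, extended by zero. -/
def zext (S : Finset (Fin m)) (f : S → F) : Fin m → F := fun i => if h : i ∈ S then f ⟨i, h⟩ else 0

theorem zext_mem {S : Finset (Fin m)} (f : S → F) {i : Fin m} (h : i ∈ S) : zext S f i = f ⟨i, h⟩ :=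
  dif_pos h

theorem zext_not_mem {S : Finset (Fin m)} (f : S → F) {i : Fin m} (h : i ∉ S) : zext S f i = 0 :=
  dif_neg h

theorem act_map_add (p : Pairs m) (a : F) (w w' : Fin m → F) :
    act p a (w + w') = act p a w + act p a w' := by
  funext i
  simp only [act, Pi.add_apply, mul_add, List.sum_map_add]
  ring

theorem into_single_sum (μ : Fin m) (c : F) (j : Fin m) : ∀ p : Pairs m,
    ((into p j).map fun e => (e.2.2 : F) * (Pi.single μ c : Fin m → F) e.2.1).sum =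
      (((outOf p μ).filter fun e => decide (e.1 = j)).map fun e => (e.2.2 : F) * c).sum
  | [] => rfl
  | e :: p => by
    have ih := into_single_sum μ c j p
    simp only [into, outOf] at ih ⊢
    by_cases h1 : e.1 = j <;> by_cases h2 : e.2.1 = μ <;>
      simp [List.filter_cons, h1, h2, ih]

theorem act_single_one {p : Pairs m} {μ i : Fin m} {k : ℤ} (h : outOf p μ = [(i, μ, k)]) (a c : F) :
    act p a (Pi.single μ c) = Pi.single μ c + Pi.single i (a * ((k : F) * c)) := by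
  funext j
  rw [act, into_single_sum, h, Pi.add_apply]
  by_cases hj : i = j
  · subst hj; simp
  · simp [hj, Pi.single_eq_of_ne (Ne.symm hj)]

theorem act_single_nil {p : Pairs m} {μ : Fin m} (h : outOf p μ = []) (a c : F) :
    act p a (Pi.single μ c) = Pi.single μ c := by
  funext j
  rw [act, into_single_sum, h]
  simp

/-- A set of vectors stable under all the moves. -/
def Inv (P : Fin K → Pairs m) (Q : (Fin m → F) → Prop) : Prop :=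
  ∀ k a w, Q w → Q (act (P k) a w)

theorem Inv.fl {P : Fin K → Pairs m} {Q : (Fin m → F) → Prop} (hQ : Inv P Q) :
    ∀ (L : List (Ent K m)) (t : Fin m → F) (w : Fin m → F), Q w → Q (fl P L t w)
  | [], _, _, h => h
  | _ :: L, t, w, h => hQ _ _ _ (Inv.fl hQ L t w h)

theorem Inv.unfl {P : Fin K → Pairs m} {Q : (Fin m → F) → Prop} (hQ : Inv P Q) :
    ∀ (L : List (Ent K m)) (t : Fin m → F) (w : Fin m → F), Q w → Q (unfl P L t w)
  | [], _, _, h => h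
  | _ :: L, t, w, h => Inv.unfl hQ L t _ (hQ _ _ _ h)

variable {𝕋 : Tab m K} {d : ℕ}

namespace Tab.Ok

variable (h : 𝕋.Ok d)
include h

theorem card_Ts (μ : Fin m) : (𝕋.Ts μ).card = d := by
  rw [Tab.Ts, List.toFinset_card_of_nodup (l := 𝕋.T μ) (h.2.1 μ).1.1, Tab.T, tgts, List.length_map,
    (h.2.1 μ).2.1]

theorem mem_Ts {μ i : Fin m} : i ∈ 𝕋.Ts μ ↔ ∃ e ∈ 𝕋.nb μ, e.2.1 = i := by
  simp [Tab.Ts, Tab.T, tgts]

theorem not_mem_Ts_self (μ : Fin m) : μ ∉ 𝕋.Ts μ := by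
  rw [h.mem_Ts]
  rintro ⟨e, he, rfl⟩
  exact ((h.2.1 _).2.2.2 e he).2.1 rfl

/-- Clearing the neighbours of a non-zero coordinate. -/
theorem exists_clear {μ : Fin m} {w : Fin m → F} (hw : w μ ≠ 0) :
    ∃ t u : Fin m → F, fl 𝕋.P (𝕋.nb μ) t u = w ∧ u μ = w μ ∧ (∀ i ∈ 𝕋.Ts μ, u i = 0) ∧
      (∀ i, w i = 0 → t i = 0) ∧ u = RootWeight.unfl 𝕋.P (𝕋.nb μ) t w := by
  classical
  let t : Fin m → F := fun i => if he : ∃ e ∈ 𝕋.nb μ, e.2.1 = i then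
    w i / ((he.choose.2.2 : F) * w μ) else 0
  set u := RootWeight.unfl 𝕋.P (𝕋.nb μ) t w with hu
  have hf : fl 𝕋.P (𝕋.nb μ) t u = w := fl_unfl (fun e _ => h.1 e.1) t w
  have hμ : u μ = w μ := by
    rw [← hf, (h.2.1 μ).1.fl_src]
  refine ⟨t, u, hf, hμ, fun i hi => ?_, fun i hi => ?_, rfl⟩
  · have he := h.mem_Ts.1 hi
    obtain ⟨hc1, hc2⟩ := he.choose_spec
    have hcne : (he.choose.2.2 : F) ≠ 0 := (h.2.1 μ).1.cast_ne_zero hc1
    have := congrFun hf i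
    rw [← hc2, (h.2.1 μ).1.fl_tgt t u hc1, hc2, hμ] at this
    have ht : t i = w i / ((he.choose.2.2 : F) * w μ) := dif_pos he
    rw [ht, div_mul_cancel₀ _ (mul_ne_zero hcne hw)] at this
    exact add_eq_right.1 this
  · show (if he : ∃ e ∈ 𝕋.nb μ, e.2.1 = i then w i / ((he.choose.2.2 : F) * w μ) else 0) = 0
    split_ifs <;> simp [hi]

theorem bt_preserve {μ ν : Fin m} (hsp : 𝕋.Spread μ ν) (s : Fin m → F) {u : Fin m → F}
    (hu : ∀ i ∈ 𝕋.Ts μ, u i = 0) : ∀ L : List (Ent K m), L ⊆ 𝕋.bt μ ν →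
      fl 𝕋.P L s u μ = u μ ∧ ∀ i ∈ 𝕋.Ts μ, fl 𝕋.P L s u i = 0 := by
  intro L
  induction L with
  | nil => exact fun _ => ⟨rfl, hu⟩
  | cons e L ih =>
    intro hs
    obtain ⟨h1, h2⟩ := ih fun x hx => hs (List.mem_cons_of_mem _ hx)
    obtain ⟨h3, -, h4⟩ := hsp.2.2 e (hs List.mem_cons_self)
    refine ⟨?_, fun i hi => ?_⟩
    · show act (𝕋.P e.1) (s e.2.1) (fl 𝕋.P L s u) μ = u μ
      rw [act_of_nil h3, h1]
    · show act (𝕋.P e.1) (s e.2.1) (fl 𝕋.P L s u) i = 0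
      obtain ⟨e', he', rfl⟩ := h.mem_Ts.1 hi
      rw [act, List.sum_eq_zero, mul_zero, h2 _ hi, add_zero]
      intro x hx
      obtain ⟨pr, hpr, rfl⟩ := List.mem_map.1 hx
      rw [h2 _ (List.mem_toFinset.2 (h4 e' he' pr hpr)), mul_zero]

theorem lone_preserve {μ ν : Fin m} (hl : 𝕋.Lone μ ν) (s : Fin m → F) {u : Fin m → F}
    (hu : ∀ i, i ≠ μ → i ≠ ν → u i = 0) : ∀ L : List (Ent K m), L ⊆ 𝕋.bt μ ν →
      fl 𝕋.P L s u μ = u μ ∧
        ∀ i, i ≠ μ → i ≠ ν → i ∉ tgts (𝕋.bt μ ν) → fl 𝕋.P L s u i = 0 := by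
  intro L
  induction L with
  | nil => exact fun _ => ⟨rfl, fun i h1 h2 _ => hu i h1 h2⟩
  | cons e L ih =>
    intro hs
    obtain ⟨h1, h2⟩ := ih fun x hx => hs (List.mem_cons_of_mem _ hx)
    have he := hs List.mem_cons_self
    have key : ∀ i, i ∉ tgts (𝕋.bt μ ν) →
        act (𝕋.P e.1) (s e.2.1) (fl 𝕋.P L s u) i = fl 𝕋.P L s u i := fun i hi => by
      rw [act, List.sum_eq_zero, mul_zero, add_zero]
      intro x hx
      obtain ⟨pr, hpr, rfl⟩ := List.mem_map.1 hx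
      obtain ⟨hp1, hp2⟩ := mem_into.1 hpr
      have hn : pr.2.1 ∉ μ :: ν :: tgts (𝕋.bt μ ν) := fun hm =>
        hi (hp2 ▸ (hl.2.2.1 e he).2.2.2 pr hp1 hm)
      simp only [List.mem_cons, not_or] at hn
      rw [h2 _ hn.1 hn.2.1 hn.2.2, mul_zero]
    have hμ : μ ∉ tgts (𝕋.bt μ ν) := fun hm => by
      obtain ⟨x, hx, hxμ⟩ := List.mem_map.1 hm
      exact (hl.2.2.1 x hx).2.1 hxμ
    exact ⟨(key μ hμ).trans h1, fun i a b c => (key i c).trans (h2 i a b c)⟩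

/-- A cleared vector with a further coordinate has a large orbit. -/
theorem exists_big [Fintype F] {Q : (Fin m → F) → Prop} (hQ : Inv 𝕋.P Q) {μ ν : Fin m}
    {u : Fin m → F} (hQu : Q u) (hμ : u μ ≠ 0) (hu : ∀ i ∈ 𝕋.Ts μ, u i = 0) (hν : ν ≠ μ)
    (huν : u ν ≠ 0) :
    ∃ S : Finset (Fin m → F), S.card = Fintype.card F ^ (d + 2) ∧ ∀ w ∈ S, Q w ∧ w ≠ 0 := by
  classical
  have hout : ∀ ν', u ν' ≠ 0 → ν' ∉ 𝕋.T μ := fun ν' hne hc => hne (hu ν' (List.mem_toFinset.2 hc))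
  obtain ⟨ν, huν, hpre⟩ : ∃ ν, u ν ≠ 0 ∧ ((Clean 𝕋.P ν (𝕋.bt μ ν) ∧ (𝕋.bt μ ν).length = 2) ∧
      ∀ s : Fin m → F, fl 𝕋.P (𝕋.bt μ ν) s u μ = u μ ∧
        ∀ i ∈ 𝕋.Ts μ, fl 𝕋.P (𝕋.bt μ ν) s u i = 0) := by
    by_cases hsp : ∃ ν', ν' ≠ μ ∧ u ν' ≠ 0 ∧ 𝕋.Spread μ ν'
    · obtain ⟨ν', -, hne, hs⟩ := hsp
      exact ⟨ν', hne, ⟨hs.1, hs.2.1⟩, fun s => h.bt_preserve hs s hu _ (fun x hx => hx)⟩
    · push Not at hsp
      have hl : 𝕋.Lone μ ν :=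
        (h.2.2.2 μ ν hν (hout ν huν)).resolve_left (hsp ν hν huν)
      have hsupp : ∀ i, i ≠ μ → i ≠ ν → u i = 0 := fun i h1 h2 => by
        by_contra h3
        exact hsp i h1 h3 (hl.2.2.2 i h1 (hout i h3) h2)
      refine ⟨ν, huν, ⟨hl.1, hl.2.1⟩, fun s => ?_⟩
      obtain ⟨p1, p2⟩ := h.lone_preserve hl s hsupp _ (fun x hx => hx)
      refine ⟨p1, fun i hi => p2 i ?_ ?_ ?_⟩
      · rintro rfl; exact h.not_mem_Ts_self _ hi
      · rintro rfl; exact huν (hu _ hi)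
      · intro hm
        obtain ⟨e, he, rfl⟩ := List.mem_map.1 hm
        exact (hl.2.2.1 e he).1 (List.mem_toFinset.1 hi)
  obtain ⟨⟨hbc, hbl⟩, hpres⟩ := hpre
  set B : Finset (Fin m) := (tgts (𝕋.bt μ ν)).toFinset with hB
  have hBc : B.card = 2 := by
    rw [hB, List.toFinset_card_of_nodup (l := tgts (𝕋.bt μ ν)) hbc.1, tgts, List.length_map, hbl]
  let f : (↥(𝕋.Ts μ) → F) × (↥B → F) → (Fin m → F) := fun p =>
    fl 𝕋.P (𝕋.nb μ) (zext _ p.1) (fl 𝕋.P (𝕋.bt μ ν) (zext _ p.2) u)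
  have hval : ∀ p, f p μ = u μ ∧ ∀ i (hi : i ∈ 𝕋.Ts μ) (e : Ent K m), e ∈ 𝕋.nb μ → e.2.1 = i →
      f p i = p.1 ⟨i, hi⟩ * ((e.2.2 : F) * u μ) := fun p => by
    obtain ⟨h1, h2⟩ := hpres (zext _ p.2)
    refine ⟨by simp only [f]; rw [(h.2.1 μ).1.fl_src, h1], fun i hi e he hei => ?_⟩
    subst hei
    simp only [f]
    rw [(h.2.1 μ).1.fl_tgt _ _ he, h2 _ hi, zero_add, h1, zext_mem _ hi]
  have hinj : Function.Injective f := fun p p' hpp => by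
    have e1 : p.1 = p'.1 := funext fun ⟨i, hi⟩ => by
      obtain ⟨e, he, hei⟩ := h.mem_Ts.1 hi
      have := ((hval p).2 i hi e he hei).symm.trans
        ((congrFun hpp i).trans ((hval p').2 i hi e he hei))
      exact mul_right_cancel₀ (mul_ne_zero ((h.2.1 μ).1.cast_ne_zero he) hμ) this
    have e2 : fl 𝕋.P (𝕋.bt μ ν) (zext _ p.2) u = fl 𝕋.P (𝕋.bt μ ν) (zext _ p'.2) u := by
      have := congrArg (RootWeight.unfl 𝕋.P (𝕋.nb μ) (zext _ p.1)) hpp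
      simp only [f] at this
      rwa [e1, unfl_fl (fun e _ => h.1 e.1), unfl_fl (fun e _ => h.1 e.1)] at this
    refine Prod.ext e1 (funext fun ⟨i, hi⟩ => ?_)
    obtain ⟨e, he, hei⟩ := List.mem_map.1 (List.mem_toFinset.1 hi)
    subst hei
    have h1 := congrFun e2 e.2.1
    rw [hbc.fl_tgt _ _ he, hbc.fl_tgt _ _ he, zext_mem _ hi, zext_mem _ hi] at h1
    exact mul_right_cancel₀ (mul_ne_zero (hbc.cast_ne_zero he) huν) (add_left_cancel h1)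
  refine ⟨Finset.univ.image f, ?_, fun w hw => ?_⟩
  · rw [Finset.card_image_of_injective _ hinj, Finset.card_univ, Fintype.card_prod, Fintype.card_fun,
      Fintype.card_fun, Fintype.card_coe, Fintype.card_coe, h.card_Ts, hBc, pow_add]
  · obtain ⟨p, -, rfl⟩ := Finset.mem_image.1 hw
    exact ⟨hQ.fl _ _ _ (hQ.fl _ _ _ hQu), fun h0 => hμ ((hval p).1.symm.trans (congrFun h0 μ))⟩

theorem single_adj {Q : (Fin m → F) → Prop} (hQ : Inv 𝕋.P Q) {μ : Fin m} {c : F} (hc : c ≠ 0)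
    (hQc : Q (Pi.single μ c)) {i : Fin m} (hi : i ∈ 𝕋.T μ) {b : F} (hb : b ≠ 0) :
    Q (Pi.single i b) := by
  obtain ⟨e, he, rfl⟩ := List.mem_map.1 hi
  obtain ⟨hout, -, hrev, -⟩ := (h.2.1 μ).2.2.2 e he
  have hk : (e.2.2 : F) ≠ 0 := (h.2.1 μ).1.cast_ne_zero he
  obtain ⟨e', he', hei⟩ := List.mem_map.1 hrev
  obtain ⟨hout', -, -, -⟩ := (h.2.1 e.2.1).2.2.2 e' he'
  have hk' : (e'.2.2 : F) ≠ 0 := (h.2.1 e.2.1).1.cast_ne_zero he'
  have h1 := hQ e.1 (b / ((e.2.2 : F) * c)) _ hQc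
  rw [act_single_one hout, div_mul_cancel₀ _ (mul_ne_zero hk hc)] at h1
  have hmem : (μ, e.2.1, e'.2.2) ∈ 𝕋.P e'.1 := by
    have : (e'.2.1, e.2.1, e'.2.2) ∈ outOf (𝕋.P e'.1) e.2.1 := by rw [hout']; exact List.mem_singleton_self _
    rw [hei] at this
    exact (mem_outOf.1 this).1
  have h2 := hQ e'.1 (-c / ((e'.2.2 : F) * b)) _ h1
  rw [act_map_add, act_single_nil ((h.1 e'.1).outOf_eq hmem), act_single_one hout', hei,
    div_mul_cancel₀ _ (mul_ne_zero hk' hb)] at h2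
  convert h2 using 1
  funext i
  simp only [Pi.add_apply, Pi.single_apply]
  split_ifs <;> ring

theorem single_all {Q : (Fin m → F) → Prop} (hQ : Inv 𝕋.P Q) {μ : Fin m} {c : F} (hc : c ≠ 0)
    (hQc : Q (Pi.single μ c)) (ν : Fin m) {b : F} (hb : b ≠ 0) : Q (Pi.single ν b) := by
  rcases h.2.2.1 μ ν with rfl | hν | ⟨e, he, hν | ⟨e', he', hν⟩⟩
  · obtain ⟨e, he⟩ := List.exists_mem_of_ne_nil _ (h.2.1 ν).2.2.1
    have hi : e.2.1 ∈ 𝕋.T ν := List.mem_map.2 ⟨e, he, rfl⟩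
    exact h.single_adj hQ one_ne_zero (h.single_adj hQ hc hQc hi one_ne_zero)
      ((h.2.1 ν).2.2.2 e he).2.2.1 hb
  · exact h.single_adj hQ hc hQc hν hb
  · exact h.single_adj hQ one_ne_zero
      (h.single_adj hQ hc hQc (List.mem_map.2 ⟨e, he, rfl⟩) one_ne_zero) hν hb
  · exact h.single_adj hQ one_ne_zero (h.single_adj hQ one_ne_zero
      (h.single_adj hQ hc hQc (List.mem_map.2 ⟨e, he, rfl⟩) one_ne_zero)
      (List.mem_map.2 ⟨e', he', rfl⟩) one_ne_zero) hν hb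

end Tab.Ok

/-- The parameters of the cells. -/
abbrev Tab.Par (𝕋 : Tab m K) (F : Type*) [Field F] : Type _ :=
  Σ μ : Fin m, {c : F // c ≠ 0} × (↥(𝕋.Lo μ) → F)

/-- The vector of a parameter. -/
def Tab.point (𝕋 : Tab m K) (x : 𝕋.Par F) : Fin m → F :=
  fl 𝕋.P (𝕋.nb x.1) (zext _ x.2.2) (Pi.single x.1 (x.2.1 : F))

namespace Tab.Ok

variable (h : 𝕋.Ok d)
include h

theorem point_facts (x : 𝕋.Par F) :
    (∀ i, i < x.1 → 𝕋.point x i = 0) ∧ 𝕋.point x x.1 = x.2.1 := by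
  refine ⟨?_, by rw [Tab.point, (h.2.1 x.1).1.fl_src, Pi.single_eq_same]⟩
  suffices ∀ L : List (Ent K m), L ⊆ 𝕋.nb x.1 → ∀ i, i < x.1 →
      fl 𝕋.P L (zext _ x.2.2) (Pi.single x.1 (x.2.1 : F)) i = 0 from this _ (fun _ hx => hx)
  intro L
  induction L with
  | nil => exact fun _ i hi => Pi.single_eq_of_ne (ne_of_lt hi) _
  | cons e L ih =>
    intro hs i hi
    have ih' := ih (fun y hy => hs (List.mem_cons_of_mem _ hy))
    show act (𝕋.P e.1) (zext _ x.2.2 e.2.1) (fl 𝕋.P L _ _) i = 0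
    by_cases hlt : x.1 < e.2.1
    · rw [act, List.sum_eq_zero, mul_zero, ih' i hi, add_zero]
      intro y hy
      obtain ⟨pr, hpr, rfl⟩ := List.mem_map.1 hy
      obtain ⟨hp1, hp2⟩ := mem_into.1 hpr
      rw [ih' _ (((h.2.1 x.1).2.2.2 e (hs List.mem_cons_self)).2.2.2 hlt pr hp1 (hp2 ▸ hi)), mul_zero]
    · have hz : zext _ x.2.2 e.2.1 = 0 := zext_not_mem (S := 𝕋.Lo x.1) x.2.2 fun hc => hlt (Finset.mem_filter.1 hc).2
      rw [hz, act_zero]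
      exact ih' i hi

theorem point_first {x : 𝕋.Par F} {j : Fin m} (hj : 𝕋.point x j ≠ 0) : x.1 ≤ j :=
  not_lt.1 fun hc => hj ((h.point_facts x).1 j hc)

theorem point_ne_zero (x : 𝕋.Par F) : 𝕋.point x ≠ 0 := fun h0 =>
  x.2.1.2 ((h.point_facts x).2.symm.trans (congrFun h0 x.1))

theorem point_injective : Function.Injective (𝕋.point : 𝕋.Par F → _) := by
  rintro ⟨μ, c, t⟩ ⟨μ', c', t'⟩ he
  obtain ⟨h1, h2⟩ := h.point_facts (⟨μ, c, t⟩ : 𝕋.Par F)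
  obtain ⟨h1', h2'⟩ := h.point_facts (⟨μ', c', t'⟩ : 𝕋.Par F)
  have hμ : μ = μ' := le_antisymm
    (h.point_first (x := ⟨μ, c, t⟩) (by rw [he, h2']; exact c'.2))
    (h.point_first (x := ⟨μ', c', t'⟩) (by rw [← he, h2]; exact c.2))
  subst hμ
  have hc : c = c' := Subtype.ext (h2.symm.trans ((congrFun he μ).trans h2'))
  subst hc
  congr 2
  funext ⟨i, hi⟩
  obtain ⟨e, hem, hei⟩ := h.mem_Ts.1 (Finset.mem_filter.1 hi).1
  subst hei
  have h3 := congrFun he e.2.1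
  simp only [Tab.point] at h3
  rw [(h.2.1 μ).1.fl_tgt _ _ hem, (h.2.1 μ).1.fl_tgt _ _ hem, zext_mem _ hi, zext_mem _ hi,
    Pi.single_eq_same] at h3
  exact mul_right_cancel₀ (mul_ne_zero ((h.2.1 μ).1.cast_ne_zero hem) c.2) (add_left_cancel h3)

/-- The dichotomy for an invariant set. -/
theorem cases [Fintype F] {Q : (Fin m → F) → Prop} (hQ : Inv 𝕋.P Q) (hne : ∃ w, Q w ∧ w ≠ 0) :
    (∃ S : Finset (Fin m → F), S.card = Fintype.card F ^ (d + 2) ∧ ∀ w ∈ S, Q w ∧ w ≠ 0) ∨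
      (∀ x : 𝕋.Par F, Q (𝕋.point x)) ∧ (∀ w, Q w → w ≠ 0 → ∃ x : 𝕋.Par F, 𝕋.point x = w) ∧
      ∀ (μ : Fin m) (w : Fin m → F), Q w → w μ ≠ 0 →
        ∃ t, fl 𝕋.P (𝕋.nb μ) t (Pi.single μ (w μ)) = w ∧ ∀ i, w i = 0 → t i = 0 := by
  classical
  by_cases hb : ∃ μ ν u, Q u ∧ u μ ≠ 0 ∧ (∀ i ∈ 𝕋.Ts μ, u i = 0) ∧ ν ≠ μ ∧ u ν ≠ (0 : F)
  · obtain ⟨μ, ν, u, h1, h2, h3, h4, h5⟩ := hb
    exact Or.inl (h.exists_big hQ h1 h2 h3 h4 h5)
  push Not at hb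
  right
  have hclear : ∀ (μ : Fin m) (w : Fin m → F), Q w → w μ ≠ 0 →
      ∃ t, fl 𝕋.P (𝕋.nb μ) t (Pi.single μ (w μ)) = w ∧ (∀ i, w i = 0 → t i = 0) ∧
        Q (Pi.single μ (w μ)) := fun μ w hw h0 => by
    obtain ⟨t, u, hf, hu, hu0, ht, hdef⟩ := h.exists_clear h0
    have hQu : Q u := hdef ▸ hQ.unfl _ _ _ hw
    have e : u = Pi.single μ (w μ) := funext fun i => by
      by_cases hi : i = μ
      · subst hi; rw [hu, Pi.single_eq_same]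
      · rw [Pi.single_eq_of_ne hi]
        exact hb μ i u hQu (hu ▸ h0) hu0 hi
    rw [e] at hf hQu
    exact ⟨t, hf, ht, hQu⟩
  refine ⟨fun x => ?_, fun w hw hw0 => ?_, fun μ w hw h0 => ?_⟩
  · obtain ⟨w, hw, hw0⟩ := hne
    obtain ⟨μ, hμ⟩ := Function.ne_iff.1 hw0
    obtain ⟨-, -, -, hs⟩ := hclear μ w hw hμ
    exact hQ.fl _ _ _ (h.single_all hQ hμ hs x.1 x.2.1.2)
  · have hsupp : (Finset.univ.filter fun i => w i ≠ 0).Nonempty := by
      obtain ⟨i, hi⟩ := Function.ne_iff.1 hw0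
      exact ⟨i, by simpa using hi⟩
    set μ := (Finset.univ.filter fun i => w i ≠ 0).min' hsupp with hμdef
    have hμ : w μ ≠ 0 := (Finset.mem_filter.1 (Finset.min'_mem _ hsupp)).2
    obtain ⟨t, hf, ht, -⟩ := hclear μ w hw hμ
    refine ⟨⟨μ, ⟨w μ, hμ⟩, fun i => t i⟩, ?_⟩
    show fl 𝕋.P (𝕋.nb μ) (zext _ fun i => t i) (Pi.single μ (w μ)) = w
    refine (fl_congr _ fun e he => ?_).trans hf
    by_cases hlo : e.2.1 ∈ 𝕋.Lo μ
    · rw [zext_mem _ hlo]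
    · rw [zext_not_mem _ hlo, ht]
      by_contra hne'
      have hle : μ ≤ e.2.1 := Finset.min'_le _ _ (by simpa using hne')
      exact hlo (Finset.mem_filter.2 ⟨h.mem_Ts.2 ⟨e, he, rfl⟩,
        lt_of_le_of_ne hle ((h.2.1 μ).2.2.2 e he).2.1⟩)
  · obtain ⟨t, hf, ht, -⟩ := hclear μ w hw h0
    exact ⟨t, hf, ht⟩

/-- The number of parameters with first coordinate satisfying a condition. -/
theorem card_par [Fintype F] [DecidableEq F] (p : Fin m → Prop) [DecidablePred p] :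
    (Finset.univ.filter fun x : 𝕋.Par F => p x.1).card =
      (Fintype.card F - 1) * ∑ μ ∈ Finset.univ.filter p, Fintype.card F ^ (𝕋.Lo μ).card := by
  rw [show (Finset.univ.filter fun x : 𝕋.Par F => p x.1) =
    (Finset.univ.filter p).sigma (fun _ => Finset.univ) by ext ⟨μ, y⟩; simp,
    Finset.card_sigma, Finset.mul_sum]
  refine Finset.sum_congr rfl fun μ _ => ?_
  rw [Finset.card_univ, Fintype.card_prod, Fintype.card_fun, Fintype.card_coe,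
    Fintype.card_subtype_compl, Fintype.card_subtype_eq]

end Tab.Ok

end CfsgLib.RootWeight
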