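import Cfsg.Agent.RootWeight.Weights
import Cfsg.Agent.Chevalley.Commutator
import Cfsg.Prelude.Def_ChevAutomorphisms

/-!
# Operators of root elements

A family of operators satisfying Chevalley's relations for a list of roots gives weights for an
abelian set of these roots, and restricts to the fixed space of that set.
-/

set_option autoImplicit false
set_option linter.unusedSectionVars false

namespace CfsgLib.RootWeight

open Module Cfsg.Lie CfsgLib.RepBounds CfsgLib.Chevalley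

/-- Operators for a list of roots, and scalings by the coroots. -/
structure RRep (D : ChevalleyDatum) (F : Type*) [Field F] (W : Type*) [AddCommGroup W] [Module ℂ W]
    (Φ : List ℕ) where
  /-- The root elements. -/
  T : ℕ → AddChar F (End ℂ W)
  /-- The torus elements. -/
  H : ℕ → Fˣ → End ℂ W
  comm0 : ∀ r ∈ Φ, ∀ s ∈ Φ, s ≠ r → s ≠ opp D r → D.commTerms r s = [] →
    ∀ t u, T s u * T r t = T r t * T s u
  comm1 : ∀ r ∈ Φ, ∀ s ∈ Φ, ∀ k ∈ Φ, ∀ c : ℤ, s ≠ r → s ≠ opp D r →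
    D.commTerms r s = [(k, c, 1, 1)] →
    ∀ t u, T s u * T r t = T r t * T s u * T k ((c : F) * (-t) * u)
  scale : ∀ h < D.nroots, ∀ r ∈ Φ, ∀ (u : Fˣ) (t : F),
    H h u * T r t = T r (((u ^ D.pairing h r : Fˣ) : F) * t) * H h u
  H_inv : ∀ h < D.nroots, ∀ u : Fˣ, H h u * H h u⁻¹ = 1

/-- The abelian set and the moves agree with the commutator table. -/
def LinkOk (D : ChevalleyDatum) (Φ : List ℕ) {m K : ℕ} (Y : Fin m → ℕ) (al : Fin K → ℕ)
    (𝕋 : Tab m K) : Prop :=
  (∀ i, Y i ∈ Φ) ∧ (∀ k, al k ∈ Φ) ∧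
    (∀ i j, i ≠ j → D.commTerms (Y i) (Y j) = [] ∧ Y j ≠ Y i ∧ Y j ≠ opp D (Y i)) ∧
    ∀ k i, Y i ≠ al k ∧ Y i ≠ opp D (al k) ∧ (into (𝕋.P k) i).length ≤ 1 ∧
      D.commTerms (al k) (Y i) = (into (𝕋.P k) i).map fun e => (Y e.2.1, e.2.2, 1, 1)

instance (D : ChevalleyDatum) (Φ : List ℕ) {m K : ℕ} (Y : Fin m → ℕ) (al : Fin K → ℕ) (𝕋 : Tab m K) :
    Decidable (LinkOk D Φ Y al 𝕋) := by unfold LinkOk; infer_instance

variable {D : ChevalleyDatum} {F : Type*} [Field F] [Fintype F] {W : Type*} [AddCommGroup W]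
  [Module ℂ W] [FiniteDimensional ℂ W] {Φ : List ℕ} {m K : ℕ} {Y : Fin m → ℕ} {al : Fin K → ℕ}
  {𝕋 : Tab m K} (R : RRep D F W Φ)

theorem RRep.commute_Y (L : LinkOk D Φ Y al 𝕋) :
    Pairwise fun i j => ∀ (x y : Multiplicative F),
      Commute ((R.T (Y i)).toMonoidHom x) ((R.T (Y j)).toMonoidHom y) := by
  intro i j hij x y
  obtain ⟨h1, h2, h3⟩ := L.2.2.1 i j hij
  exact (R.comm0 _ (L.1 i) _ (L.1 j) h2 h3 h1 x.toAdd y.toAdd).symm

/-- The family of the abelian set. -/
noncomputable def RRep.P (L : LinkOk D Φ Y al 𝕋) : AddChar (Fin m → F) (End ℂ W) where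
  toFun v := MonoidHom.noncommPiCoprod (fun i => (R.T (Y i)).toMonoidHom) (R.commute_Y L)
    fun i => Multiplicative.ofAdd (v i)
  map_zero_eq_one' := map_one
    (MonoidHom.noncommPiCoprod (fun i => (R.T (Y i)).toMonoidHom) (R.commute_Y L) :
      (Fin m → Multiplicative F) →* End ℂ W)
  map_add_eq_mul' a b := by rw [← map_mul]; rfl

theorem RRep.P_single (L : LinkOk D Φ Y al 𝕋) (i : Fin m) (x : F) :
    R.P L (Pi.single i x) = R.T (Y i) x := by
  classical
  show (MonoidHom.noncommPiCoprod (fun i => (R.T (Y i)).toMonoidHom) (R.commute_Y L))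
    (fun j => Multiplicative.ofAdd ((Pi.single i x : Fin m → F) j)) = _
  have e : (fun j => Multiplicative.ofAdd ((Pi.single i x : Fin m → F) j)) =
      Pi.mulSingle i (Multiplicative.ofAdd x) := by
    funext j
    by_cases h : j = i
    · subst h; simp
    · simp [Pi.single_eq_of_ne h, Pi.mulSingle_eq_of_ne h]
  rw [e]
  exact MonoidHom.noncommPiCoprod_mulSingle _ _ _

theorem dual_single_nil {p : Pairs m} {i : Fin m} (h : into p i = []) (a x : F) :
    dual p a (Pi.single i x) = Pi.single i x := by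
  funext j
  rw [dual, List.sum_eq_zero, mul_zero, add_zero]
  intro y hy
  obtain ⟨e, he, rfl⟩ := List.mem_map.1 hy
  have : e.1 ≠ i := fun hc => by
    have : e ∈ into p i := mem_into.2 ⟨(mem_outOf.1 he).1, hc⟩
    rw [h] at this
    simp at this
  rw [Pi.single_eq_of_ne this, mul_zero]

theorem dual_single_one {p : Pairs m} {i j : Fin m} {c : ℤ} (h : into p i = [(i, j, c)]) (a x : F) :
    dual p a (Pi.single i x) = Pi.single i x + Pi.single j (a * ((c : F) * x)) := by
  classical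
  funext l
  have key : ∀ q : Pairs m, (((outOf q l)).map fun e => (e.2.2 : F) * (Pi.single i x : Fin m → F) e.1).sum =
      (((into q i).filter fun e => decide (e.2.1 = l)).map fun e => (e.2.2 : F) * x).sum := by
    intro q
    induction q with
    | nil => rfl
    | cons e q ih =>
      simp only [into, outOf] at ih ⊢
      by_cases h1 : e.2.1 = l <;> by_cases h2 : e.1 = i <;> simp [List.filter_cons, h1, h2, ih]
  rw [dual, key, h, Pi.add_apply]
  by_cases hl : j = l
  · subst hl; simp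
  · simp [hl, Pi.single_eq_of_ne (Ne.symm hl)]

theorem RRep.rel (L : LinkOk D Φ Y al 𝕋) (h2 : ∀ k, Nil2 (𝕋.P k)) :
    Rel 𝕋 (R.P L) (fun k => R.T (al k)) := by
  classical
  refine ⟨h2, fun k a v => ?_⟩
  rw [← Finset.univ_sum_single v]
  generalize (Finset.univ : Finset (Fin m)) = s
  induction s using Finset.induction with
  | empty =>
    have e : dual (𝕋.P k) (-a) (0 : Fin m → F) = 0 := (dualEquiv (𝕋.P k) (h2 k) (-a)).map_zero
    rw [Finset.sum_empty, e, AddChar.map_zero_eq_one, one_mul, mul_one]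
  | insert i s hi ih =>
    have hone : R.P L (Pi.single i (v i)) * R.T (al k) a =
        R.T (al k) a * R.P L (dual (𝕋.P k) (-a) (Pi.single i (v i))) := by
      obtain ⟨n1, n2, hlen, hc⟩ := L.2.2.2 k i
      rcases hl : into (𝕋.P k) i with _ | ⟨e, l⟩
      · rw [hl] at hc
        rw [dual_single_nil hl, R.P_single L]
        exact R.comm0 _ (L.2.1 k) _ (L.1 i) n1 n2 hc a (v i)
      · rw [hl] at hlen hc
        obtain rfl : l = [] := List.length_eq_zero_iff.1 (by simp at hlen; simpa using hlen)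
        have hei : e.1 = i := (mem_into.1 (hl ▸ List.mem_singleton_self e)).2
        rw [dual_single_one (j := e.2.1) (c := e.2.2) (by rw [hl, ← hei]),
          AddChar.map_add_eq_mul, R.P_single L, R.P_single L, ← mul_assoc]
        rw [R.comm1 _ (L.2.1 k) _ (L.1 i) _ (L.1 e.2.1) e.2.2 n1 n2 (by simpa using hc) a (v i),
          show (e.2.2 : F) * -a * v i = -a * ((e.2.2 : F) * v i) by ring]
    rw [Finset.sum_insert hi, AddChar.map_add_eq_mul, mul_assoc, ih, ← mul_assoc, hone, mul_assoc,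
      ← AddChar.map_add_eq_mul, ← dual_map_add]

/-- An operator preserved by a projection, on its range. -/
noncomputable def restrictChar {A : Type*} [AddMonoid A] (e : End ℂ W) (α : AddChar A (End ℂ W))
    (h : ∀ t, α t * e = e * α t) : AddChar A (End ℂ (LinearMap.range e)) where
  toFun t := (α t).restrict (p := LinearMap.range e) (q := LinearMap.range e) fun x ⟨y, hy⟩ =>
    ⟨α t y, by rw [← hy]; exact (LinearMap.congr_fun (h t) y).symm⟩
  map_zero_eq_one' := by ext x; simp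
  map_add_eq_mul' a b := by ext x; simp [AddChar.map_add_eq_mul]

theorem trace_restrictChar {A : Type*} [AddMonoid A] (e : End ℂ W) (he : e * e = e)
    (α : AddChar A (End ℂ W)) (h : ∀ t, α t * e = e * α t) (t : A) :
    LinearMap.trace ℂ _ (restrictChar e α h t) = LinearMap.trace ℂ W (α t * e) := by
  have hm : ∀ x, (α t * e) x ∈ LinearMap.range e := fun x => ⟨α t x, by
    rw [h t]; rfl⟩
  rw [← LinearMap.trace_restrict_eq_of_forall_mem (LinearMap.range e) (α t * e) hm]
  congr 1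
  ext ⟨x, y, rfl⟩
  show α t (e y) = α t (e (e y))
  rw [← Module.End.mul_apply e e, he]

variable {ψ : AddChar F ℂ}

theorem RRep.commute_pr0 (L : LinkOk D Φ Y al 𝕋) (h2 : ∀ k, Nil2 (𝕋.P k)) (k : Fin K) (t : F) :
    R.T (al k) t * pr ψ (R.P L) 0 = pr ψ (R.P L) 0 * R.T (al k) t := by
  rw [T_mul_pr (R.rel L h2) k t 0, act_apply_zero]

/-- The scaling of the coordinates by a torus element. -/
def scaleEquiv (c : Fin m → Fˣ) : (Fin m → F) ≃+ (Fin m → F) where
  toFun v i := (c i : F) * v i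
  invFun v i := ((c i)⁻¹ : Fˣ) * v i
  left_inv v := by funext i; simp [← mul_assoc]
  right_inv v := by funext i; simp [← mul_assoc]
  map_add' a b := by funext i; simp [mul_add]

theorem RRep.H_mul_P (L : LinkOk D Φ Y al 𝕋) {h : ℕ} (hh : h < D.nroots) (u : Fˣ) (v : Fin m → F) :
    R.H h u * R.P L v = R.P L (scaleEquiv (fun i => u ^ D.pairing h (Y i)) v) * R.H h u := by
  classical
  rw [← Finset.univ_sum_single v]
  generalize (Finset.univ : Finset (Fin m)) = s
  induction s using Finset.induction with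
  | empty =>
    have e0 : scaleEquiv (fun i => u ^ D.pairing h (Y i)) (0 : Fin m → F) = 0 := by
      funext i; simp [scaleEquiv]
    rw [Finset.sum_empty, e0, AddChar.map_zero_eq_one, one_mul, mul_one]
  | insert i s hi ih =>
    have e : scaleEquiv (fun i => u ^ D.pairing h (Y i)) (Pi.single i (v i)) =
        Pi.single i (((u ^ D.pairing h (Y i) : Fˣ) : F) * v i) := by
      funext j
      by_cases hj : j = i
      · subst hj; simp [scaleEquiv]
      · simp [scaleEquiv, Pi.single_eq_of_ne hj]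
    rw [Finset.sum_insert hi, (scaleEquiv _).map_add, AddChar.map_add_eq_mul, AddChar.map_add_eq_mul,
      ← mul_assoc,
      R.P_single L, R.scale h hh _ (L.1 i), e, R.P_single L, mul_assoc, ih, ← mul_assoc]

theorem RRep.H_comm_pr (L : LinkOk D Φ Y al 𝕋) {h : ℕ} (hh : h < D.nroots) (u : Fˣ)
    (w : Fin m → F) (hw : ∀ i, w i = 0 ∨ D.pairing h (Y i) = 0) :
    R.H h u * pr ψ (R.P L) w = pr ψ (R.P L) w * R.H h u := by
  rw [pr, conj_proj (R.P L) (chi ψ w) (R.H h u) (scaleEquiv fun i => u ^ D.pairing h (Y i))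
    (R.H_mul_P L hh u)]
  congr 2
  refine DFunLike.ext _ _ fun v => ?_
  rw [AddChar.compAddMonoidHom_apply]
  show ψ (∑ i, (((u ^ D.pairing h (Y i))⁻¹ : Fˣ) : F) * v i * w i) = ψ (∑ i, v i * w i)
  congr 1
  refine Finset.sum_congr rfl fun i _ => ?_
  rcases hw i with h0 | h0 <;> simp [h0]

open Classical in
/-- The operators on the fixed space of the abelian set. -/
noncomputable def RRep.next (L : LinkOk D Φ Y al 𝕋) (h2 : ∀ k, Nil2 (𝕋.P k)) (ψ : AddChar F ℂ) :
    RRep D F (LinearMap.range (pr ψ (R.P L) 0)) (List.ofFn al) where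
  T r := if h : ∀ t, R.T r t * pr ψ (R.P L) 0 = pr ψ (R.P L) 0 * R.T r t then
    restrictChar _ (R.T r) h else 1
  H h u := if hh : h < D.nroots then (R.H h u).restrict (p := LinearMap.range (pr ψ (R.P L) 0))
    (q := LinearMap.range (pr ψ (R.P L) 0)) (fun x ⟨y, hy⟩ => ⟨R.H h u y, by
      rw [← hy]; exact (LinearMap.congr_fun (R.H_comm_pr L hh u 0 fun i => Or.inl rfl) y).symm⟩) else 1
  comm0 r hr s hs h1 h3 hc t u := by
    obtain ⟨k, rfl⟩ := List.mem_ofFn.1 hr
    obtain ⟨k', rfl⟩ := List.mem_ofFn.1 hs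
    rw [dif_pos (R.commute_pr0 L h2 k), dif_pos (R.commute_pr0 L h2 k')]
    ext x
    exact LinearMap.congr_fun (R.comm0 _ (L.2.1 k) _ (L.2.1 k') h1 h3 hc t u) x
  comm1 r hr s hs l hl c h1 h3 hc t u := by
    obtain ⟨k, rfl⟩ := List.mem_ofFn.1 hr
    obtain ⟨k', rfl⟩ := List.mem_ofFn.1 hs
    obtain ⟨k'', rfl⟩ := List.mem_ofFn.1 hl
    rw [dif_pos (R.commute_pr0 L h2 k), dif_pos (R.commute_pr0 L h2 k'),
      dif_pos (R.commute_pr0 L h2 k'')]
    ext x
    exact LinearMap.congr_fun (R.comm1 _ (L.2.1 k) _ (L.2.1 k') _ (L.2.1 k'') c h1 h3 hc t u) x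
  scale h hh r hr u t := by
    obtain ⟨k, rfl⟩ := List.mem_ofFn.1 hr
    rw [dif_pos (R.commute_pr0 L h2 k), dif_pos hh]
    ext x
    exact LinearMap.congr_fun (R.scale h hh _ (L.2.1 k) u t) x
  H_inv h hh u := by
    rw [dif_pos hh, dif_pos hh]
    ext x
    exact LinearMap.congr_fun (R.H_inv h hh u) x

theorem RRep.trace_next (L : LinkOk D Φ Y al 𝕋) (h2 : ∀ k, Nil2 (𝕋.P k)) (k : Fin K) (t : F) :
    LinearMap.trace ℂ _ ((R.next L h2 ψ).T (al k) t) =
      LinearMap.trace ℂ W (R.T (al k) t * pr ψ (R.P L) 0) := by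
  classical
  show LinearMap.trace ℂ _ ((if h : _ then restrictChar _ (R.T (al k)) h else 1 : AddChar F _) t) = _
  rw [dif_pos (R.commute_pr0 L h2 k), trace_restrictChar _ (pr_idem _ _ _)]

/-- Two root elements joined by a root have the same trace. -/
theorem RRep.trace_adj {α s μ : ℕ} {c c' : ℤ} (hα : α ∈ Φ) (hβ : opp D α ∈ Φ) (hs : s ∈ Φ)
    (hμ : μ ∈ Φ)
    (h1 : s ≠ α ∧ s ≠ opp D α ∧ D.commTerms α s = [(μ, c, 1, 1)])
    (h2 : s ≠ opp D α ∧ s ≠ opp D (opp D α) ∧ D.commTerms (opp D α) s = [])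
    (h3 : μ ≠ opp D α ∧ μ ≠ opp D (opp D α) ∧ D.commTerms (opp D α) μ = [(s, c', 1, 1)])
    (h4 : μ ≠ α ∧ μ ≠ opp D α ∧ D.commTerms α μ = [])
    (h5 : μ ≠ s ∧ μ ≠ opp D s ∧ D.commTerms s μ = []) (hc : c * c = 1) (hc' : c' * c' = 1) (t : F) :
    LinearMap.trace ℂ W (R.T s t) = LinearMap.trace ℂ W (R.T μ ((c : F) * t)) := by
  set b : F := -((c : F) * (c' : F)) with hb
  have hcF : (c : F) * c = 1 := by exact_mod_cast congrArg (Int.cast : ℤ → F) hc
  have hcF' : (c' : F) * c' = 1 := by exact_mod_cast congrArg (Int.cast : ℤ → F) hc'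
  have cA : ∀ x y, R.T μ x * R.T α y = R.T α y * R.T μ x := fun x y =>
    R.comm0 α hα μ hμ h4.1 h4.2.1 h4.2.2 y x
  have cB : ∀ x y, R.T s x * R.T (opp D α) y = R.T (opp D α) y * R.T s x := fun x y =>
    R.comm0 _ hβ s hs h2.1 h2.2.1 h2.2.2 y x
  have cS : ∀ x y, R.T μ x * R.T s y = R.T s y * R.T μ x := fun x y =>
    R.comm0 s hs μ hμ h5.1 h5.2.1 h5.2.2 y x
  have eA : ∀ a y, R.T α a * R.T s y = R.T s y * R.T α a * R.T μ ((c : F) * a * y) := fun a y => by
    rw [R.comm1 α hα s hs μ hμ c h1.1 h1.2.1 h1.2.2 a y, mul_assoc, ← AddChar.map_add_eq_mul,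
      show (c : F) * -a * y + c * a * y = 0 by ring, AddChar.map_zero_eq_one, mul_one]
  have eB : ∀ x y, R.T (opp D α) x * R.T μ y =
      R.T μ y * R.T (opp D α) x * R.T s ((c' : F) * x * y) := fun x y => by
    rw [R.comm1 _ hβ μ hμ s hs c' h3.1 h3.2.1 h3.2.2 x y, mul_assoc, ← AddChar.map_add_eq_mul,
      show (c' : F) * -x * y + c' * x * y = 0 by ring, AddChar.map_zero_eq_one, mul_one]
  have hN : R.T α 1 * R.T (opp D α) b * R.T α 1 * R.T s t =
      R.T μ ((c : F) * t) * (R.T α 1 * R.T (opp D α) b * R.T α 1) := by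
    have h0 : (c' : F) * b * ((c : F) * 1 * t) + t = 0 := by
      rw [hb, show (c' : F) * -((c : F) * c') * ((c : F) * 1 * t) =
        -(((c : F) * c) * ((c' : F) * c')) * t by ring, hcF, hcF']
      ring
    calc R.T α 1 * R.T (opp D α) b * R.T α 1 * R.T s t
        = R.T α 1 * (R.T (opp D α) b * R.T s t) * (R.T α 1 * R.T μ ((c : F) * 1 * t)) := by
          rw [mul_assoc (R.T α 1 * _), eA]; simp only [mul_assoc]
      _ = R.T α 1 * R.T s t * (R.T (opp D α) b * R.T μ ((c : F) * 1 * t)) * R.T α 1 := by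
          rw [← cB, ← cA]; simp only [mul_assoc]
      _ = R.T α 1 * (R.T s t * R.T μ ((c : F) * 1 * t)) * R.T (opp D α) b *
            R.T s ((c' : F) * b * ((c : F) * 1 * t)) * R.T α 1 := by
          rw [eB]; simp only [mul_assoc]
      _ = R.T α 1 * R.T μ ((c : F) * 1 * t) * (R.T s t * R.T (opp D α) b *
            R.T s ((c' : F) * b * ((c : F) * 1 * t))) * R.T α 1 := by
          rw [← cS]; simp only [mul_assoc]
      _ = R.T α 1 * R.T μ ((c : F) * 1 * t) * (R.T (opp D α) b * R.T s ((c' : F) * b * ((c : F) * 1 * t) + t))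
            * R.T α 1 := by
          rw [cB, mul_assoc (R.T (opp D α) b), ← AddChar.map_add_eq_mul, add_comm t]
      _ = _ := by
          rw [h0, AddChar.map_zero_eq_one, ← cA]
          simp only [mul_one, mul_assoc]
  have hU : R.T α 1 * R.T (opp D α) b * R.T α 1 *
      (R.T α (-1) * R.T (opp D α) (-b) * R.T α (-1)) = 1 := by
    have i1 : ∀ (r : ℕ) (x : F), R.T r x * R.T r (-x) = 1 := fun r x => by
      rw [← AddChar.map_add_eq_mul, add_neg_cancel, AddChar.map_zero_eq_one]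
    calc _ = R.T α 1 * (R.T (opp D α) b * (R.T α 1 * R.T α (-1)) * R.T (opp D α) (-b)) * R.T α (-1) := by
          simp only [mul_assoc]
      _ = _ := by rw [i1, mul_one, i1, mul_one, i1]
  have hU' : R.T α (-1) * R.T (opp D α) (-b) * R.T α (-1) *
      (R.T α 1 * R.T (opp D α) b * R.T α 1) = 1 := by
    have i1 : ∀ (r : ℕ) (x : F), R.T r (-x) * R.T r x = 1 := fun r x => by
      rw [← AddChar.map_add_eq_mul, neg_add_cancel, AddChar.map_zero_eq_one]
    calc _ = R.T α (-1) * (R.T (opp D α) (-b) * (R.T α (-1) * R.T α 1) * R.T (opp D α) b) * R.T α 1 := by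
          simp only [mul_assoc]
      _ = _ := by rw [i1, mul_one, i1, mul_one, i1]
  conv_rhs => rw [← mul_one (R.T μ _), ← hU, ← mul_assoc, ← hN, LinearMap.trace_mul_comm,
    ← mul_assoc, hU', one_mul]

end CfsgLib.RootWeight
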