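import Cfsg.Agent.RootWeight.Orbit
import Cfsg.Agent.RepBounds.Proj

/-!
# Multiplicities of weights along a table of moves

A representation of the group of coordinates normalised by moves has either many weights or exactly
the weights of the cells, each once; in the second case the traces of the coordinate elements and of
a move are known.
-/

set_option autoImplicit false
set_option linter.unusedSectionVars false

namespace CfsgLib.RootWeight

open Module CfsgLib.RepBounds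

variable {m K d : ℕ} {F : Type*} [Field F] [Fintype F]
  {W : Type*} [AddCommGroup W] [Module ℂ W] [FiniteDimensional ℂ W]

/-- The character of a weight vector. -/
noncomputable def chi (ψ : AddChar F ℂ) (w : Fin m → F) : AddChar (Fin m → F) ℂ :=
  ψ.compAddMonoidHom (AddMonoidHom.mk' (fun v => ∑ i, v i * w i) fun a b => by
    simp [add_mul, Finset.sum_add_distrib])

theorem chi_apply (ψ : AddChar F ℂ) (w v : Fin m → F) : chi ψ w v = ψ (∑ i, v i * w i) := rfl

theorem chi_zero (ψ : AddChar F ℂ) : chi ψ (0 : Fin m → F) = 0 := by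
  ext v; simp [chi_apply]

theorem chi_single (ψ : AddChar F ℂ) (w : Fin m → F) (j : Fin m) (t : F) :
    chi ψ w (Pi.single j t) = ψ (t * w j) := by
  classical
  rw [chi_apply, Finset.sum_eq_single j (fun i _ hi => by rw [Pi.single_eq_of_ne hi, zero_mul])
    (fun h => absurd (Finset.mem_univ j) h), Pi.single_eq_same]

theorem chi_injective {ψ : AddChar F ℂ} (hψ : ψ.IsPrimitive) :
    Function.Injective (chi ψ : (Fin m → F) → _) := by
  intro w w' h
  by_contra hne
  obtain ⟨i, hi⟩ := Function.ne_iff.1 hne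
  refine hψ (sub_ne_zero.2 hi) (DFunLike.ext _ _ fun t => ?_)
  have h1 := DFunLike.congr_fun h (Pi.single i t)
  rw [chi_single, chi_single] at h1
  rw [AddChar.mulShift_apply, AddChar.one_apply, sub_mul, sub_eq_add_neg, AddChar.map_add_eq_mul,
    mul_comm (w i), h1, ← AddChar.map_add_eq_mul, mul_comm t, add_neg_cancel, AddChar.map_zero_eq_one]

theorem chi_bijective {ψ : AddChar F ℂ} (hψ : ψ.IsPrimitive) :
    Function.Bijective (chi ψ : (Fin m → F) → _) := by
  classical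
  exact (Fintype.bijective_iff_injective_and_card _).2 ⟨chi_injective hψ, AddChar.card_eq.symm⟩

theorem chi_dual (ψ : AddChar F ℂ) (p : Pairs m) (a : F) (w v : Fin m → F) :
    chi ψ w (dual p a v) = chi ψ (act p a w) v := by
  rw [chi_apply, chi_apply, dot_act]

variable (ψ : AddChar F ℂ) (P : AddChar (Fin m → F) (End ℂ W))

/-- The projector of a weight. -/
noncomputable def pr (w : Fin m → F) : End ℂ W := proj P (chi ψ w)

/-- The multiplicity of a weight. -/
noncomputable def mu (w : Fin m → F) : ℕ := mult P (chi ψ w)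

theorem pr_idem (w : Fin m → F) : pr ψ P w * pr ψ P w = pr ψ P w := proj_mul_proj _ _

theorem rnk_pr (w : Fin m → F) : rnk (pr ψ P w) = mu ψ P w := rfl

variable {ψ P} (hψ : ψ.IsPrimitive)
include hψ

theorem pr_orth {w w' : Fin m → F} (h : w ≠ w') : pr ψ P w * pr ψ P w' = 0 :=
  proj_orth P fun e => h (chi_injective hψ e)

theorem sum_pr : ∑ w, pr ψ P w = 1 := by
  classical
  rw [← sum_proj P]
  exact Fintype.sum_bijective (chi ψ) (chi_bijective hψ) _ _ fun _ => rfl

theorem sum_mu : ∑ w, mu ψ P w = finrank ℂ W := by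
  classical
  rw [← sum_mult P]
  exact Fintype.sum_bijective (chi ψ) (chi_bijective hψ) _ _ fun _ => rfl

theorem trace_P (v : Fin m → F) :
    LinearMap.trace ℂ W (P v) = ∑ w, chi ψ w v * (mu ψ P w : ℂ) := by
  classical
  rw [trace_map P]
  exact (Fintype.sum_bijective (chi ψ) (chi_bijective hψ) _ _ fun _ => rfl).symm

theorem exists_mu_ne {v : Fin m → F} (h : P v ≠ 1) : ∃ w, mu ψ P w ≠ 0 ∧ w ≠ 0 := by
  obtain ⟨χ, hχ, hm⟩ := exists_weight P h
  obtain ⟨w, rfl⟩ := (chi_bijective hψ).2 χ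
  exact ⟨w, hm.ne', fun h0 => hχ (by rw [h0, chi_zero])⟩

omit hψ

/-- The moves act on the family as prescribed. -/
def Rel (𝕋 : Tab m K) (P : AddChar (Fin m → F) (End ℂ W)) (T : Fin K → AddChar F (End ℂ W)) : Prop :=
  (∀ k, Nil2 (𝕋.P k)) ∧ ∀ k a v, P v * T k a = T k a * P (dual (𝕋.P k) (-a) v)

variable {𝕋 : Tab m K} {T : Fin K → AddChar F (End ℂ W)}

theorem T_inv (k : Fin K) (a : F) : T k a * T k (-a) = 1 := by
  rw [← AddChar.map_add_eq_mul, add_neg_cancel, AddChar.map_zero_eq_one]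

theorem T_inv' (k : Fin K) (a : F) : T k (-a) * T k a = 1 := by
  rw [← AddChar.map_add_eq_mul, neg_add_cancel, AddChar.map_zero_eq_one]

variable (hR : Rel 𝕋 P T)
include hR

theorem T_mul_P (k : Fin K) (a : F) (v : Fin m → F) :
    T k a * P v = P (dual (𝕋.P k) a v) * T k a := by
  rw [hR.2, dual_add (hR.1 k), neg_add_cancel, dual_zero]

theorem T_mul_pr (k : Fin K) (a : F) (w : Fin m → F) :
    T k a * pr ψ P w = pr ψ P (act (𝕋.P k) (-a) w) * T k a := by
  rw [pr, pr, conj_proj P (chi ψ w) (T k a) (dualEquiv (𝕋.P k) (hR.1 k) a) (T_mul_P hR k a)]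
  congr 2
  exact DFunLike.ext _ _ fun v => chi_dual ψ _ (-a) w v

theorem mu_act (k : Fin K) (a : F) (w : Fin m → F) : mu ψ P (act (𝕋.P k) a w) = mu ψ P w := by
  have h := mult_comp P (dualEquiv (𝕋.P k) (hR.1 k) a) (fun v => by
    show LinearMap.trace ℂ W (P (dual (𝕋.P k) a v)) = _
    rw [← mul_one (P (dual (𝕋.P k) a v)), ← T_inv (T := T) k a, ← mul_assoc, ← T_mul_P hR,
      LinearMap.trace_mul_comm, ← mul_assoc, T_inv', one_mul]) (chi ψ w)
  rw [show (chi ψ w).compAddMonoidHom (dualEquiv (𝕋.P k) (hR.1 k) a).toAddMonoidHom =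
    chi ψ (act (𝕋.P k) a w) from DFunLike.ext _ _ fun v => chi_dual ψ _ a w v] at h
  exact h

theorem inv_of_mu (p : ℕ → Prop) : Inv 𝕋.P fun w => p (mu ψ P w) := fun k a w h => by
  show p _
  rwa [mu_act hR]

omit hR

/-- The weights are those of the cells, each once. -/
def Exact (ψ : AddChar F ℂ) (𝕋 : Tab m K) (P : AddChar (Fin m → F) (End ℂ W)) : Prop :=
  (∀ x : 𝕋.Par F, mu ψ P (𝕋.point x) = 1) ∧
    (∀ w, mu ψ P w ≠ 0 → w ≠ 0 → ∃ x : 𝕋.Par F, 𝕋.point x = w) ∧
    ∀ (μ : Fin m) (w : Fin m → F), mu ψ P w ≠ 0 → w μ ≠ 0 →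
      ∃ t, fl 𝕋.P (𝕋.nb μ) t (Pi.single μ (w μ)) = w ∧ ∀ i, w i = 0 → t i = 0

variable (hT : 𝕋.Ok d)
include hT hψ hR

open Classical in
/-- Many weights, or exactly the cells. -/
theorem step_cases (hne : ∃ w, mu ψ P w ≠ 0 ∧ w ≠ 0) :
    Fintype.card F ^ (d + 2) + mu ψ P 0 ≤ finrank ℂ W ∨
      2 * Fintype.card (𝕋.Par F) + mu ψ P 0 ≤ finrank ℂ W ∨ Exact ψ 𝕋 P := by
  have hsum : ∀ (S : Finset (Fin m → F)) (c : ℕ), (∀ w ∈ S, c ≤ mu ψ P w ∧ w ≠ 0) →
      S.card * c + mu ψ P 0 ≤ finrank ℂ W := fun S c hS => by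
    rw [← sum_mu (P := P) hψ, ← Finset.sum_erase_add _ _ (Finset.mem_univ (0 : Fin m → F))]
    refine Nat.add_le_add_right ?_ _
    calc S.card * c = ∑ _w ∈ S, c := by rw [Finset.sum_const, smul_eq_mul]
      _ ≤ ∑ w ∈ S, mu ψ P w := Finset.sum_le_sum fun w hw => (hS w hw).1
      _ ≤ _ := Finset.sum_le_sum_of_subset fun w hw =>
        Finset.mem_erase.2 ⟨(hS w hw).2, Finset.mem_univ _⟩
  have hbig : ∀ S : Finset (Fin m → F), S.card = Fintype.card F ^ (d + 2) →
      (∀ w ∈ S, mu ψ P w ≠ 0 ∧ w ≠ 0) → Fintype.card F ^ (d + 2) + mu ψ P 0 ≤ finrank ℂ W :=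
    fun S hS h => by
      have := hsum S 1 fun w hw => ⟨Nat.one_le_iff_ne_zero.2 (h w hw).1, (h w hw).2⟩
      rwa [mul_one, hS] at this
  obtain ⟨S, hS, h⟩ | ⟨hall, hsur, hcl⟩ :=
    hT.cases (Q := fun w => mu ψ P w ≠ 0) (inv_of_mu hR fun n => n ≠ 0) hne
  · exact Or.inl (hbig S hS h)
  by_cases h2 : ∃ x : 𝕋.Par F, 2 ≤ mu ψ P (𝕋.point x)
  · obtain ⟨x, hx⟩ := h2
    obtain ⟨S, hS, h⟩ | ⟨hall2, -, -⟩ := hT.cases (Q := fun w => 2 ≤ mu ψ P w)
      (inv_of_mu hR fun n => 2 ≤ n) ⟨_, hx, hT.point_ne_zero x⟩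
    · exact Or.inl (hbig S hS fun w hw => ⟨by have := (h w hw).1; omega, (h w hw).2⟩)
    · refine Or.inr (Or.inl ?_)
      have := hsum (Finset.univ.image 𝕋.point) 2 (by
        simp only [Finset.mem_image, Finset.mem_univ, true_and, forall_exists_index,
          forall_apply_eq_imp_iff]
        exact fun x => ⟨hall2 x, hT.point_ne_zero x⟩)
      rwa [Finset.card_image_of_injective _ hT.point_injective, Finset.card_univ, mul_comm] at this
  · push Not at h2
    exact Or.inr (Or.inr ⟨fun x => by have := h2 x; have := hall x; omega, hsur, hcl⟩)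

variable (hE : Exact ψ 𝕋 P)
include hE

theorem mu_eq_ite (w : Fin m → F) (hw : w ≠ 0) [Decidable (∃ x : 𝕋.Par F, 𝕋.point x = w)] :
    mu ψ P w = if ∃ x : 𝕋.Par F, 𝕋.point x = w then 1 else 0 := by
  split_ifs with h
  · obtain ⟨x, rfl⟩ := h; exact hE.1 x
  · by_contra h0; exact h (hE.2.1 w h0 hw)

open Classical in
theorem sum_weights {M : Type*} [AddCommMonoid M] (f : (Fin m → F) → M) :
    ∑ w, mu ψ P w • f w = mu ψ P 0 • f 0 + ∑ x : 𝕋.Par F, f (𝕋.point x) := by
  rw [← Finset.add_sum_erase _ _ (Finset.mem_univ (0 : Fin m → F))]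
  congr 1
  rw [← Finset.sum_subset (s₁ := Finset.univ.image 𝕋.point)]
  · rw [Finset.sum_image fun x _ y _ e => hT.point_injective e]
    exact Finset.sum_congr rfl fun x _ => by rw [hE.1, one_nsmul]
  · intro w hw
    obtain ⟨x, -, rfl⟩ := Finset.mem_image.1 hw
    exact Finset.mem_erase.2 ⟨hT.point_ne_zero x, Finset.mem_univ _⟩
  · intro w hw hni
    rw [mu_eq_ite hψ hR hT hE w (Finset.mem_erase.1 hw).1, if_neg, zero_nsmul]
    rintro ⟨x, rfl⟩
    exact hni (Finset.mem_image.2 ⟨x, Finset.mem_univ _, rfl⟩)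

open Classical in
theorem finrank_eq : finrank ℂ W = mu ψ P 0 + Fintype.card (𝕋.Par F) := by
  rw [← sum_mu (P := P) hψ]
  have := sum_weights hψ hR hT hE (fun _ => (1 : ℕ))
  simpa using this

open Classical in
/-- The trace of a coordinate element. -/
theorem trace_coord (j : Fin m) {t : F} (ht : t ≠ 0) :
    (finrank ℂ W : ℂ) - LinearMap.trace ℂ W (P (Pi.single j t)) = (Fintype.card F : ℂ) ^ (d + 1) := by
  have h1 := sum_weights hψ hR hT hE (fun w => 1 - chi ψ w (Pi.single j t))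
  have h2 : (finrank ℂ W : ℂ) - LinearMap.trace ℂ W (P (Pi.single j t)) =
      ∑ w, mu ψ P w • (1 - chi ψ w (Pi.single j t)) := by
    rw [trace_P hψ, ← sum_mu (P := P) hψ, Nat.cast_sum, ← Finset.sum_sub_distrib]
    exact Finset.sum_congr rfl fun w _ => by rw [nsmul_eq_mul]; ring
  rw [h2, h1]
  simp only [chi_single, Pi.zero_apply, mul_zero, AddChar.map_zero_eq_one, sub_self, smul_zero,
    zero_add]
  rw [← Finset.sum_filter_of_ne (p := fun x => 𝕋.point x j ≠ 0) (fun x _ hx h0 => hx (by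
    rw [h0, mul_zero, AddChar.map_zero_eq_one, sub_self]))]
  let g : {c : F // c ≠ 0} × (↥(𝕋.Ts j) → F) → (Fin m → F) := fun p =>
    fl 𝕋.P (𝕋.nb j) (zext _ p.2) (Pi.single j (p.1 : F))
  have hgj : ∀ p, g p j = (p.1 : F) := fun p => by
    simp only [g]; rw [(hT.2.1 j).1.fl_src, Pi.single_eq_same]
  have hg : Function.Injective g := fun p p' he => by
    have e1 : p.1 = p'.1 := Subtype.ext ((hgj p).symm.trans ((congrFun he j).trans (hgj p')))
    refine Prod.ext e1 (funext fun ⟨i, hi⟩ => ?_)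
    obtain ⟨e, hem, hei⟩ := hT.mem_Ts.1 hi
    subst hei
    have h3 := congrFun he e.2.1
    simp only [g] at h3
    rw [(hT.2.1 j).1.fl_tgt _ _ hem, (hT.2.1 j).1.fl_tgt _ _ hem, zext_mem _ hi, zext_mem _ hi,
      Pi.single_eq_same, Pi.single_eq_same, e1] at h3
    exact mul_right_cancel₀ (mul_ne_zero ((hT.2.1 j).1.cast_ne_zero hem) p'.1.2) (add_left_cancel h3)
  have hset : (Finset.univ.filter fun x : 𝕋.Par F => 𝕋.point x j ≠ 0).image 𝕋.point =
      Finset.univ.image g := by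
    ext w
    simp only [Finset.mem_image, Finset.mem_filter, Finset.mem_univ, true_and]
    constructor
    · rintro ⟨x, hx, rfl⟩
      obtain ⟨s, hs, -⟩ := hE.2.2 j (𝕋.point x) (by rw [hE.1]; exact one_ne_zero) hx
      refine ⟨(⟨_, hx⟩, fun i => s i), ?_⟩
      simp only [g]
      refine (fl_congr _ fun e he => ?_).trans hs
      rw [zext_mem _ (hT.mem_Ts.2 ⟨e, he, rfl⟩)]
    · rintro ⟨p, rfl⟩
      have hx0 : 𝕋.point (⟨j, p.1, 0⟩ : 𝕋.Par F) = Pi.single j (p.1 : F) := by
        rw [Tab.point, fl_congr (t' := 0) _ fun e _ => by simp [zext]]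
        suffices ∀ L : List (Ent K m), fl 𝕋.P L 0 (Pi.single j (p.1 : F)) = Pi.single j (p.1 : F) from this _
        intro L
        induction L with
        | nil => rfl
        | cons e L ih =>
          show act (𝕋.P e.1) (0 : F) (fl 𝕋.P L 0 _) = _
          rw [act_zero, ih]
      have hm : mu ψ P (g p) ≠ 0 :=
        (inv_of_mu hR fun n => n ≠ 0).fl (𝕋.nb j) (zext _ p.2) (Pi.single j (p.1 : F))
          (by rw [← hx0, hE.1]; exact one_ne_zero)
      have hne : g p ≠ 0 := fun h0 => p.1.2 ((hgj p).symm.trans (congrFun h0 j))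
      obtain ⟨x, hx⟩ := hE.2.1 _ hm hne
      exact ⟨x, by rw [hx, hgj]; exact p.1.2, hx⟩
  have h3 : ∑ x ∈ Finset.univ.filter (fun x : 𝕋.Par F => 𝕋.point x j ≠ 0), (1 - ψ (t * 𝕋.point x j)) =
      ∑ p, (1 - ψ (t * g p j)) := by
    rw [← Finset.sum_image (f := fun w => 1 - ψ (t * w j)) (g := 𝕋.point)
        fun x _ y _ e => hT.point_injective e, hset, Finset.sum_image fun x _ y _ e => hg e]
  rw [h3]
  simp only [hgj, Fintype.sum_prod_type, Finset.sum_const, Finset.card_univ, Fintype.card_fun,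
    Fintype.card_coe, hT.card_Ts, nsmul_eq_mul, Nat.cast_pow, ← Finset.mul_sum]
  have h4 : ∑ c : {c : F // c ≠ 0}, (1 - ψ (t * c)) = ∑ c : F, (1 - ψ (t * c)) := by
    rw [← Finset.sum_subtype (Finset.univ.erase (0 : F)) (fun c => by simp) (fun c => 1 - ψ (t * c))]
    exact Finset.sum_erase _ (by simp)
  rw [h4, Finset.sum_sub_distrib, Finset.sum_const, Finset.card_univ, nsmul_eq_mul, mul_one]
  have h5 : ∑ c : F, ψ (t * c) = 0 := by
    simpa [AddChar.mulShift_apply] using AddChar.sum_eq_zero_of_ne_one (hψ ht)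
  rw [h5, sub_zero, pow_succ]

omit hE

/-- A move whose sources are the first coordinates. -/
def Tab.MoveOk (𝕋 : Tab m K) (kM : ℕ) (s : Fin K) : Prop :=
  ((𝕋.P s).map fun e => e.1).Nodup ∧ (∀ e ∈ 𝕋.P s, e.2.2 * e.2.2 = 1 ∧ (e.2.1 : ℕ) < kM) ∧
    ∀ j : Fin m, (j : ℕ) < kM → ∃ e ∈ 𝕋.P s, e.2.1 = j

omit hψ hR hT

instance (𝕋 : Tab m K) (kM : ℕ) (s : Fin K) : Decidable (𝕋.MoveOk kM s) :=
  inferInstanceAs (Decidable (_ ∧ _))

theorem exists_conj_point (hR : Rel 𝕋 P T) (μ : Fin m) (t : Fin m → F) (X : End ℂ W) :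
    ∀ L : List (Ent K m), (∀ e ∈ L, t e.2.1 = 0 ∨ ∀ a, X * T e.1 a = T e.1 a * X) →
      ∀ w, ∃ U U' : End ℂ W, U * U' = 1 ∧ X * U = U * X ∧
        pr ψ P (fl 𝕋.P L t w) * U = U * pr ψ P w
  | [], _, _ => ⟨1, 1, one_mul _, by simp, by simp [fl]⟩
  | e :: L, h, w => by
    obtain ⟨U, U', hU, hX, hp⟩ :=
      exists_conj_point hR μ t X L (fun x hx => h x (List.mem_cons_of_mem _ hx)) w
    refine ⟨T e.1 (-t e.2.1) * U, U' * T e.1 (t e.2.1), ?_, ?_, ?_⟩
    · rw [mul_assoc, ← mul_assoc U, hU, one_mul, T_inv']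
    · have hc : X * T e.1 (-t e.2.1) = T e.1 (-t e.2.1) * X := by
        rcases h e List.mem_cons_self with h0 | hc
        · rw [h0, neg_zero, AddChar.map_zero_eq_one, mul_one, one_mul]
        · exact hc _
      rw [← mul_assoc, hc, mul_assoc, hX, ← mul_assoc]
    · show pr ψ P (act (𝕋.P e.1) (t e.2.1) (fl 𝕋.P L t w)) * (T e.1 (-t e.2.1) * U) = _
      have h1 := T_mul_pr (ψ := ψ) hR e.1 (-t e.2.1) (fl 𝕋.P L t w)
      rw [neg_neg] at h1
      rw [← mul_assoc, ← h1, mul_assoc, hp, ← mul_assoc]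

include hψ hR hT hE

open Classical in
/-- The trace of a move, in terms of its trace on the fixed space. -/
theorem trace_move {kM : ℕ} {s : Fin K} (hs : 𝕋.MoveOk kM s) {a : F} (ha : a ≠ 0)
    (hph : ∀ (μ : Fin m) (c : F), kM ≤ (μ : ℕ) → c ≠ 0 → mu ψ P (Pi.single μ c) = 1 →
      act (𝕋.P s) (-a) (Pi.single μ c) = Pi.single μ c →
      T s a * pr ψ P (Pi.single μ c) = pr ψ P (Pi.single μ c))
    (hcomm : ∀ μ : Fin m, kM ≤ (μ : ℕ) → ∀ e ∈ 𝕋.nb μ, μ < e.2.1 →
      ∀ b, T s a * T e.1 b = T e.1 b * T s a) :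
    (finrank ℂ W : ℂ) - LinearMap.trace ℂ W (T s a) =
      (mu ψ P 0 : ℂ) - LinearMap.trace ℂ W (T s a * pr ψ P 0) +
        ((Finset.univ.filter fun x : 𝕋.Par F => (x.1 : ℕ) < kM).card : ℂ) := by
  set X := T s a with hX
  have hterm : ∀ x : 𝕋.Par F, LinearMap.trace ℂ W (X * pr ψ P (𝕋.point x)) =
      if (x.1 : ℕ) < kM then 0 else 1 := fun x => by
    obtain ⟨hp1, hp2⟩ := hT.point_facts x
    split_ifs with hx
    · obtain ⟨e, he, hej⟩ := hs.2.2 x.1 hx
      have hmv : act (𝕋.P s) (-a) (𝕋.point x) ≠ 𝕋.point x := fun heq => by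
        have hin : into (𝕋.P s) e.1 = [(e.1, e.2.1, e.2.2)] := by
          have hone : ∀ (p : Pairs m), (p.map fun y => y.1).Nodup → e ∈ p → into p e.1 = [e] := by
            intro p
            induction p with
            | nil => simp
            | cons y p ih =>
              intro hn hy
              rw [List.map_cons, List.nodup_cons] at hn
              rcases List.mem_cons.1 hy with rfl | hy'
              · have : ∀ z ∈ p, ¬ z.1 = e.1 := fun z hz hz' => hn.1 (List.mem_map.2 ⟨z, hz, hz'⟩)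
                simp only [into, List.filter_cons, decide_true, if_true, List.cons.injEq, true_and,
                  List.filter_eq_nil_iff, decide_eq_true_eq]
                exact this
              · have hne : ¬ y.1 = e.1 := fun hz => hn.1 (List.mem_map.2 ⟨e, hy', hz.symm⟩)
                simpa [into, List.filter_cons, hne] using ih hn.2 hy'
          exact hone _ hs.1 he
        have h1 := congrFun heq e.1
        rw [act_of_single hin, hej, hp2] at h1
        have hc : (e.2.2 : F) ≠ 0 := fun h0 => by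
          have := congrArg (Int.cast : ℤ → F) (hs.2.1 e he).1
          rw [Int.cast_mul, h0, mul_zero, Int.cast_one] at this
          exact zero_ne_one this
        exact mul_ne_zero (neg_ne_zero.2 ha) (mul_ne_zero hc x.2.1.2) (add_eq_left.1 h1)
      rw [← pr_idem ψ P (𝕋.point x), ← mul_assoc, LinearMap.trace_mul_comm, hX,
        T_mul_pr (ψ := ψ) hR, ← mul_assoc, pr_orth hψ (Ne.symm hmv), zero_mul, map_zero]
    · obtain ⟨U, U', hU, hXU, hp⟩ := exists_conj_point (ψ := ψ) hR x.1 (zext _ x.2.2) X (𝕋.nb x.1)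
        (fun e he => if h : e.2.1 ∈ 𝕋.Lo x.1 then
          Or.inr (hcomm x.1 (not_lt.1 hx) e he (Finset.mem_filter.1 h).2)
          else Or.inl (zext_not_mem _ h)) (Pi.single x.1 (x.2.1 : F))
      have hsingle : mu ψ P (Pi.single x.1 (x.2.1 : F)) = 1 := by
        refine le_antisymm ?_ (Nat.one_le_iff_ne_zero.2 ?_)
        · by_contra h
          push Not at h
          have := (inv_of_mu hR fun n => 1 < n).fl (𝕋.nb x.1) (zext _ x.2.2) _ h
          exact absurd (hE.1 x) (by show mu ψ P (𝕋.point x) ≠ 1; exact (ne_of_gt this))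
        · intro h
          have := (inv_of_mu hR fun n => n = 0).fl (𝕋.nb x.1) (zext _ x.2.2) _ h
          exact one_ne_zero ((hE.1 x).symm.trans this)
      have hfix : act (𝕋.P s) (-a) (Pi.single x.1 (x.2.1 : F)) = Pi.single x.1 (x.2.1 : F) := by
        refine act_single_nil (List.eq_nil_iff_forall_not_mem.2 fun e he => ?_) _ _
        obtain ⟨h1, h2⟩ := mem_outOf.1 he
        exact hx (h2 ▸ (hs.2.1 e h1).2)
      have hE' := hph x.1 _ (not_lt.1 hx) x.2.1.2 hsingle hfix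
      have e1 : pr ψ P (𝕋.point x) = U * pr ψ P (Pi.single x.1 (x.2.1 : F)) * U' := by
        rw [← hp, mul_assoc, hU, mul_one]; rfl
      have hprod : X * pr ψ P (𝕋.point x) = pr ψ P (𝕋.point x) := by
        rw [e1, ← mul_assoc, ← mul_assoc, hXU, mul_assoc U, hE']
      rw [hprod, rnk_trace (pr_idem ψ P _), rnk_pr, hE.1, Nat.cast_one]
  have htr : LinearMap.trace ℂ W X =
      LinearMap.trace ℂ W (X * pr ψ P 0) + ∑ x : 𝕋.Par F, LinearMap.trace ℂ W (X * pr ψ P (𝕋.point x)) := by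
    conv_lhs => rw [← mul_one X, ← sum_pr (P := P) hψ, Finset.mul_sum, map_sum]
    rw [← Finset.add_sum_erase _ _ (Finset.mem_univ (0 : Fin m → F))]
    congr 1
    rw [← Finset.sum_image (f := fun w => LinearMap.trace ℂ W (X * pr ψ P w)) (g := 𝕋.point)
      fun x _ y _ e => hT.point_injective e]
    refine (Finset.sum_subset (fun w hw => ?_) fun w hw hni => ?_).symm
    · obtain ⟨x, -, rfl⟩ := Finset.mem_image.1 hw
      exact Finset.mem_erase.2 ⟨hT.point_ne_zero x, Finset.mem_univ _⟩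
    · have h0 : rnk (pr ψ P w) = 0 := by
        rw [rnk_pr, mu_eq_ite hψ hR hT hE w (Finset.mem_erase.1 hw).1, if_neg]
        rintro ⟨x, rfl⟩
        exact hni (Finset.mem_image.2 ⟨x, Finset.mem_univ _, rfl⟩)
      rw [eq_zero_of_rnk h0, mul_zero, map_zero]
  rw [htr, finrank_eq hψ hR hT hE, Finset.sum_congr rfl fun x _ => hterm x, Finset.sum_ite,
    Finset.sum_const_zero, zero_add, Finset.sum_const, nsmul_eq_mul, mul_one,
    ← Finset.card_univ, ← Finset.card_filter_add_card_filter_not (s := (Finset.univ : Finset (𝕋.Par F)))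
      (fun x : 𝕋.Par F => (x.1 : ℕ) < kM)]
  push_cast
  ring

end CfsgLib.RootWeight
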